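import Groth.Agent.H81.VeryAmple.Crit
import Groth.Agent.Lib.ProjQ.Stage
import Groth.Agent.Lib.QCAlgSub.Sections
import Groth.Agent.Lib.H70.FTQuot

/-!
# The immersion criterion is met by a submodule of finite type
-/

set_option autoImplicit false
set_option linter.style.haveILetI false
universe u

open CategoryTheory CategoryTheory.Limits AlgebraicGeometry TopologicalSpace Opposite

namespace Groth.Agent.H81.VeryAmple.FTCrit

open Groth.Agent.Lib
open Groth.Agent.Lib.TensorMod.Dual (rs rf rf_self)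
open Groth.Agent.Lib.Ample.GenLocus (exists_coord)
open Groth.Agent.Lib.SymAlg.PE (gloc gloc_le gloc_inf_eq ratio ratio_self ratio_smul ev ev_smul toSpec toSpec_comp ImmOn rats)

noncomputable section

/-- A member of a generated subring is generated by finitely many of the generators. -/
theorem exists_finset_closure {ι R : Type*} [CommRing R] (f : ι → R) {c : R}
    (h : c ∈ Subring.closure (Set.range f)) : ∃ s : Finset ι, c ∈ Subring.closure (f '' ↑s) := by
  classical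
  induction h using Subring.closure_induction with
  | mem x hx => obtain ⟨i, rfl⟩ := hx; exact ⟨{i}, Subring.subset_closure ⟨i, by simp, rfl⟩⟩
  | zero => exact ⟨∅, zero_mem _⟩
  | one => exact ⟨∅, one_mem _⟩
  | add x y _ _ hx hy =>
    obtain ⟨s, hs⟩ := hx
    obtain ⟨t, ht⟩ := hy
    exact ⟨s ∪ t, add_mem (Subring.closure_mono (Set.image_mono (by simp)) hs)
      (Subring.closure_mono (Set.image_mono (by simp)) ht)⟩
  | neg x _ hx => obtain ⟨s, hs⟩ := hx; exact ⟨s, neg_mem hs⟩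
  | mul x y _ _ hx hy =>
    obtain ⟨s, hs⟩ := hx
    obtain ⟨t, ht⟩ := hy
    exact ⟨s ∪ t, mul_mem (Subring.closure_mono (Set.image_mono (by simp)) hs)
      (Subring.closure_mono (Set.image_mono (by simp)) ht)⟩

theorem opensRange_specMap_away {R : Type u} [CommRing R] (g : R) :
    (Spec.map (CommRingCat.ofHom (algebraMap R (Localization.Away g)))).opensRange = PrimeSpectrum.basicOpen g :=
  Opens.ext (PrimeSpectrum.localization_away_comap_range _ g)

theorem exists_finset_immOn {X : Scheme.{u}} {R : CommRingCat.{u}} {T : X.Opens} (hT : IsCompact (T : Set X))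
    {K : Subring Γ(X, T)} (hK : ImmOn T K) (σ : R ⟶ Γ(X, T)) (hσK : σ.hom.range ≤ K)
    [LocallyOfFiniteType (toSpec T σ)] :
    ∃ s : Finset Γ(X, T), (↑s : Set Γ(X, T)) ⊆ K ∧ ∀ K' : Subring Γ(X, T), (↑s : Set Γ(X, T)) ⊆ K' →
      σ.hom.range ≤ K' → K' ≤ K → ImmOn T K' := by
  classical
  let k0 : (T : Scheme.{u}) ⟶ Spec (CommRingCat.of K) := toSpec T (CommRingCat.ofHom (R := K) K.subtype)
  haveI : IsImmersion k0 := hK
  let τ : R ⟶ CommRingCat.of K := CommRingCat.ofHom (σ.hom.codRestrict K fun x => hσK ⟨x, rfl⟩)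
  have hτ : k0 ≫ Spec.map τ = toSpec T σ := by rw [toSpec_comp]; rfl
  let a : ∀ g : K, Spec (CommRingCat.of (Localization.Away g)) ⟶ Spec (CommRingCat.of K) := fun g =>
    Spec.map (CommRingCat.ofHom (algebraMap K (Localization.Away g)))
  have hz : ∀ z : (T : Scheme.{u}), ∃ g : K, k0 z ∈ (a g).opensRange ∧ (a g).opensRange ≤ k0.coborderRange := by
    intro z
    obtain ⟨_, ⟨g, rfl⟩, hzg, hle⟩ := PrimeSpectrum.isTopologicalBasis_basic_opens.exists_subset_of_mem_open
      (show k0 z ∈ (k0.coborderRange : Set _) from subset_coborder ⟨z, rfl⟩) k0.coborderRange.isOpen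
    exact ⟨g, (opensRange_specMap_away g).ge hzg, fun w hw => hle ((opensRange_specMap_away g).le hw)⟩
  choose g hg hgle using hz
  haveI : CompactSpace (T : Scheme.{u}) := isCompact_iff_compactSpace.1 hT
  obtain ⟨Z, hZ⟩ := isCompact_univ.elim_finite_subcover (fun z => (k0 ⁻¹ᵁ (a (g z)).opensRange : Set (T : Scheme.{u})))
    (fun z => (k0 ⁻¹ᵁ (a (g z)).opensRange).isOpen) (fun z _ => Set.mem_iUnion.2 ⟨z, hg z⟩)
  let l : ∀ z, ((k0 ⁻¹ᵁ (a (g z)).opensRange : (T : Scheme.{u}).Opens) : Scheme.{u}) ⟶ _ := fun z =>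
    (k0 ∣_ (a (g z)).opensRange) ≫ (a (g z)).isoOpensRange.inv
  have hl : ∀ z, IsClosedImmersion (l z) ∧ l z ≫ a (g z) = (k0 ⁻¹ᵁ (a (g z)).opensRange).ι ≫ k0 := fun z => by
    haveI := ProjQ.isClosedImmersion_restrict_of_le k0 (hgle z)
    refine ⟨inferInstanceAs (IsClosedImmersion ((k0 ∣_ (a (g z)).opensRange) ≫ (a (g z)).isoOpensRange.inv)), ?_⟩
    rw [Category.assoc, Scheme.Hom.isoOpensRange_inv_comp, morphismRestrict_ι]
  have hB : ∀ z, ∃ B : Finset (Localization.Away (g z)), ∀ (A' : CommRingCat.{u})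
      (ψ : A' ⟶ CommRingCat.of (Localization.Away (g z))), (∀ b ∈ B, b ∈ Set.range ψ.hom) →
      (∀ c, algebraMap K (Localization.Away (g z)) (τ.hom c) ∈ Set.range ψ.hom) →
      IsClosedImmersion (l z ≫ Spec.map ψ) := fun z => by
    haveI := (hl z).1
    haveI : LocallyOfFiniteType (l z ≫ Spec.map (τ ≫ CommRingCat.ofHom (algebraMap K (Localization.Away (g z))))) := by
      rw [Spec.map_comp, ← Category.assoc, (hl z).2, Category.assoc, hτ]
      infer_instance
    obtain ⟨B, hB⟩ := ProjQ.exists_finset_closed (l z) (τ ≫ CommRingCat.ofHom (algebraMap K (Localization.Away (g z))))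
    exact ⟨B, hB⟩
  choose B hB using hB
  choose N c hc using fun z (b : Localization.Away (g z)) => IsLocalization.Away.surj (g z) b
  let s : Finset Γ(X, T) := Z.biUnion fun z => insert (g z : Γ(X, T)) ((B z).image fun b => (c z b : Γ(X, T)))
  refine ⟨s, fun x hx => ?_, fun K' hs' hσ' hle => ?_⟩
  · obtain ⟨z, -, hx⟩ := Finset.mem_biUnion.1 hx
    obtain rfl | hx := Finset.mem_insert.1 hx
    · exact (g z).2
    · obtain ⟨b, -, rfl⟩ := Finset.mem_image.1 hx
      exact (c z b).2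
  let k' : (T : Scheme.{u}) ⟶ Spec (CommRingCat.of K') := toSpec T (CommRingCat.ofHom (R := K') K'.subtype)
  let i : K' →+* K := Subring.inclusion hle
  have hk' : k0 ≫ Spec.map (CommRingCat.ofHom i) = k' := by rw [toSpec_comp]; rfl
  have hg' : ∀ z ∈ Z, (g z : Γ(X, T)) ∈ K' := fun z hz =>
    hs' (Finset.mem_biUnion.2 ⟨z, hz, Finset.mem_insert_self _ _⟩)
  let a' : ∀ z : Z, Spec (CommRingCat.of (Localization.Away (⟨_, hg' z z.2⟩ : K'))) ⟶ Spec (CommRingCat.of K') :=
    fun z => Spec.map (CommRingCat.ofHom (algebraMap K' (Localization.Away (⟨_, hg' z z.2⟩ : K'))))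
  have hpre : ∀ z : Z, k' ⁻¹ᵁ (a' z).opensRange = k0 ⁻¹ᵁ (a (g z)).opensRange := fun z => by
    rw [← hk', Scheme.Hom.comp_preimage, opensRange_specMap_away, opensRange_specMap_away]
    rfl
  refine Crit.isImmersion_of_preimages k' (fun z : Z => (a' z).opensRange) (fun x => ?_) fun z => ?_
  · obtain ⟨z, hzZ, hx⟩ := Set.mem_iUnion₂.1 (hZ (Set.mem_univ x))
    exact ⟨⟨z, hzZ⟩, (SetLike.ext_iff.1 (hpre ⟨z, hzZ⟩) x).2 hx⟩
  · let g' : K' := ⟨_, hg' z z.2⟩
    let ψ : Localization.Away g' →+* Localization.Away (g z) := Localization.awayMap i g'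
    have hψ : ∀ w : K', ψ (algebraMap K' (Localization.Away g') w) = algebraMap K (Localization.Away (g z)) (i w) :=
      fun w => by
        have hu : IsUnit ((algebraMap K (Localization.Away (i g'))).comp i g') :=
          IsLocalization.Away.algebraMap_isUnit (i g')
        exact (IsLocalization.Away.lift_eq (S := Localization.Away g') g' hu w :)
    have hcl : IsClosedImmersion (l z ≫ Spec.map (CommRingCat.ofHom ψ)) := by
      refine hB z _ (CommRingCat.ofHom ψ) (fun b hb => ?_) fun r => ?_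
      · have hcK : (c z b : Γ(X, T)) ∈ K' :=
          hs' (Finset.mem_biUnion.2 ⟨z, z.2, Finset.mem_insert_of_mem (Finset.mem_image_of_mem _ hb)⟩)
        refine ⟨IsLocalization.mk' _ (⟨_, hcK⟩ : K') (⟨g' ^ N z b, N z b, rfl⟩ : Submonoid.powers g'), ?_⟩
        change ψ _ = b
        have hu : IsUnit (algebraMap K (Localization.Away (g z)) (g z) ^ N z b) :=
          (IsLocalization.Away.algebraMap_isUnit (g z)).pow _
        refine hu.mul_left_injective ?_
        change ψ _ * algebraMap K (Localization.Away (g z)) (g z) ^ N z b = b * _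
        rw [hc z b, ← map_pow, show (g z : K) ^ N z b = i (g' ^ N z b) from (map_pow i g' _).symm, ← hψ,
          ← map_mul, IsLocalization.mk'_spec, hψ]
        exact congrArg _ (Subtype.ext rfl)
      · exact ⟨algebraMap K' _ ⟨σ.hom r, hσ' ⟨r, rfl⟩⟩, hψ _⟩
    have e : (l z ≫ Spec.map (CommRingCat.ofHom ψ)) ≫ a' z = (k0 ⁻¹ᵁ (a (g z)).opensRange).ι ≫ k' := by
      rw [← hk', ← Category.assoc _ k0, ← (hl z).2]
      simp only [Category.assoc, a, a', ← Spec.map_comp]
      congr 2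
      exact CommRingCat.hom_ext (RingHom.ext fun w => hψ w)
    haveI : IsImmersion ((k0 ⁻¹ᵁ (a (g z)).opensRange).ι ≫ k') := by
      rw [← e]; infer_instance
    exact (congrArg (fun O : (T : Scheme.{u}).Opens => IsImmersion (O.ι ≫ k')) (hpre z)).mpr this

variable {Y X : Scheme.{u}} {q : X ⟶ Y} {L : X.Modules}

theorem isCompact_gloc [QuasiCompact q] (hL : PicF.IsInvertible L) {U : Y.Opens} (hU : IsAffineOpen U)
    (m : Γ(L, q ⁻¹ᵁ U)) : IsCompact (gloc m : Set X) := by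
  choose V hV e hxV hVW he using fun x : (q ⁻¹ᵁ U : X.Opens) =>
    ProjQ.SecAlg.exists_gen_nhd hL (x := x.1) (W := q ⁻¹ᵁ U) x.2
  choose a ha using fun x => exists_coord (he x) (rs L (hVW x) m)
  obtain ⟨t, ht⟩ := (q.isCompact_preimage hU.isCompact : IsCompact ((q ⁻¹ᵁ U : X.Opens) : Set X)).elim_finite_subcover
    (fun x => (V x : Set X)) (fun x => (V x).isOpen) fun y hy => Set.mem_iUnion.2 ⟨⟨y, hy⟩, hxV _⟩
  have : (gloc m : Set X) = ⋃ x ∈ t, ((X.basicOpen (a x) : X.Opens) : Set X) := by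
    ext y
    simp only [Set.mem_iUnion]
    constructor
    · intro hy
      obtain ⟨x, hx, hyx⟩ := Set.mem_iUnion₂.1 (ht (gloc_le m hy))
      exact ⟨x, hx, (SetLike.ext_iff.1 (gloc_inf_eq (hVW x) (he x) (ha x)) y).1 ⟨hy, hyx⟩⟩
    · rintro ⟨x, -, hyx⟩
      exact ((SetLike.ext_iff.1 (gloc_inf_eq (hVW x) (he x) (ha x)) y).2 hyx).1
  rw [this]
  exact t.isCompact_biUnion fun x _ => ((hV x).basicOpen (a x)).isCompact

theorem crit_of_comp {E F : Y.Modules} (ι : E ⟶ F) (v : F ⟶ (Scheme.Modules.pushforward q).obj L)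
    (h : SymAlg.PE.Crit (ι ≫ v)) : SymAlg.PE.Crit v := fun x => by
  obtain ⟨U, hU, e, hx, hI⟩ := h x
  refine ⟨U, hU, ι.app U e, hx, hI.mono (Subring.closure_mono ?_)⟩
  rintro _ ⟨e', rfl⟩
  exact ⟨ι.app U e', rfl⟩

theorem immOn_comp {E F : Y.Modules} (ι : E ⟶ F) (v : F ⟶ (Scheme.Modules.pushforward q).obj L) {U : Y.Opens}
    {ex : Γ(F, U)} (e₁ : Γ(E, U)) (he : ι.app U e₁ = ex)
    (h : ∀ K' : Subring Γ(X, gloc (ev v U ex)), (∀ e₂, ratio (ev v U ex) (ev v U (ι.app U e₂)) ∈ K') →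
      K' ≤ rats v U ex → ImmOn (gloc (ev v U ex)) K') :
    ImmOn (gloc (ev (ι ≫ v) U e₁)) (rats (ι ≫ v) U e₁) ∧ gloc (ev v U ex) = gloc (ev (ι ≫ v) U e₁) := by
  subst he
  refine ⟨h _ (fun e₂ => SymAlg.PE.ratio_mem_rats (ι ≫ v) U e₁ e₂) (Subring.closure_mono ?_), rfl⟩
  rintro _ ⟨e', rfl⟩
  exact ⟨ι.app U e', rfl⟩

/-- A submodule of finite type already meets the criterion. -/
theorem exists_ft_crit [CompactSpace Y] [QuasiSeparatedSpace Y] [QuasiCompact q] [LocallyOfFiniteType q]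
    (hL : PicF.IsInvertible L) {F : Y.Modules} (hF : Coh.IsQCoh F)
    (v : F ⟶ (Scheme.Modules.pushforward q).obj L) (hv : SymAlg.PE.Crit v) :
    ∃ (E : Y.Modules) (_ : Coh.IsQCoh E) (_ : CohB1.IsFT E) (ι : E ⟶ F),
      (∀ U : Y.Opens, Function.Injective (ι.app U)) ∧ SymAlg.PE.Crit (ι ≫ v) := by
  classical
  haveI : F.IsQuasicoherent := hF
  choose U hU e hx hI using hv
  have hfam : ∀ x, ∃ (S : Modules.SubStalk.Family F), Modules.SubStalk.IsLocFG S ⊤ ∧
      ∀ T : Modules.SubStalk.Family F, S ≤ T → ∃ e₁ : Γ(Modules.SubStalk.subMod T, U x),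
        x ∈ gloc (ev (Modules.SubStalk.ι T ≫ v) (U x) e₁) ∧
          ∀ y ∈ gloc (ev v (U x) (e x)), ∃ e₂ : Γ(Modules.SubStalk.subMod T, U x),
            y ∈ gloc (ev (Modules.SubStalk.ι T ≫ v) (U x) e₂) ∧
              ImmOn (gloc (ev (Modules.SubStalk.ι T ≫ v) (U x) e₂)) (rats (Modules.SubStalk.ι T ≫ v) (U x) e₂) := by
    intro x
    let W := gloc (ev v (U x) (e x))
    have hle : W ≤ q ⁻¹ᵁ U x := gloc_le _
    let σ : Γ(Y, U x) ⟶ Γ(X, W) := q.appLE (U x) W hle
    have hσr : ∀ c, σ.hom c = ratio (ev v (U x) (e x)) (ev v (U x) (c • e x)) := fun c => by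
      rw [show ev v (U x) (c • e x) = _ from ev_smul v (U x) c (e x), ratio_smul, ratio_self, mul_one]
      rfl
    have hσK : σ.hom.range ≤ rats v (U x) (e x) := by
      rintro _ ⟨c, rfl⟩
      rw [hσr c]
      exact SymAlg.PE.ratio_mem_rats v (U x) (e x) (c • e x)
    haveI : LocallyOfFiniteType (toSpec W σ) := by
      rw [toSpec, Scheme.Opens.toSpecΓ_SpecMap_appLE, ← (hU x).isoSpec_hom]
      infer_instance
    obtain ⟨s, hsK, hs⟩ := exists_finset_immOn (isCompact_gloc hL (hU x) (ev v (U x) (e x))) (hI x) σ hσK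
    choose t ht using fun a : s => exists_finset_closure _ (hsK a.2)
    let t' : Finset Γ(F, U x) := insert (e x) (Finset.univ.biUnion t)
    obtain ⟨S, hS, hmem⟩ := H70.FTQuot.exists_family (hU x) (fun i => (t'.equivFin.symm i).1)
    refine ⟨S, hS, fun T hST => ?_⟩
    have hin : ∀ a ∈ t', ∃ a₁ : Γ(Modules.SubStalk.subMod T, U x), (Modules.SubStalk.ι T).app (U x) a₁ = a :=
      fun a ha => Modules.SubStalk.exists_ι_app fun y hy =>
        hST y (by simpa using hmem (t'.equivFin ⟨a, ha⟩) y hy)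
    obtain ⟨e₁, he₁⟩ := hin (e x) (Finset.mem_insert_self _ _)
    have key := immOn_comp (Modules.SubStalk.ι T) v e₁ he₁ fun K' hK' hle' => hs K' (fun a ha => ?_) ?_ hle'
    rotate_left
    · refine (Subring.closure_le.2 ?_) (ht ⟨a, ha⟩)
      rintro _ ⟨e', he', rfl⟩
      obtain ⟨e'', rfl⟩ := hin e' (Finset.mem_insert_of_mem (Finset.mem_biUnion.2 ⟨⟨a, ha⟩, Finset.mem_univ _, he'⟩))
      exact hK' e''
    · rintro _ ⟨c, rfl⟩
      rw [hσr c]
      have h := hK' (c • e₁)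
      rwa [Scheme.Modules.Hom.app_smul, he₁] at h
    exact ⟨e₁, key.2.le (hx x), fun y hy => ⟨e₁, key.2.le hy, key.1⟩⟩
  choose S hS hST using hfam
  haveI : CompactSpace X := QuasiCompact.compactSpace_of_compactSpace q
  obtain ⟨Z, hZ⟩ := isCompact_univ.elim_finite_subcover (fun x : X => (gloc (ev v (U x) (e x)) : Set X))
    (fun x => (gloc (ev v (U x) (e x))).isOpen) (fun x _ => Set.mem_iUnion.2 ⟨x, hx x⟩)
  have hT := H70.FTQuot.isLocFG_finset_sup Z S hS
  refine ⟨_, Modules.SubStalk.isQCoh_subMod hT, Modules.SubStalk.isFT_subMod hT, Modules.SubStalk.ι (Z.sup S),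
    Modules.SubStalk.ι_app_injective _, fun y => ?_⟩
  obtain ⟨x, hxZ, hy⟩ := Set.mem_iUnion₂.1 (hZ (Set.mem_univ y))
  obtain ⟨e₁, -, hall⟩ := hST x (Z.sup S) (Finset.le_sup (f := S) hxZ)
  obtain ⟨e₂, hye, hI₂⟩ := hall y hy
  exact ⟨U x, hU x, e₂, hye, hI₂⟩

end

end Groth.Agent.H81.VeryAmple.FTCrit
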