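import Groth.Prelude.Def_RelProj4
import Groth.Agent.Lib.QCAlgSub.Basic
import Groth.Agent.Lib.ArtinFun.HomAffine
import Groth.Agent.Lib.CohBasics.Affine

/-!
# The graded subalgebra generated by a module in one degree, and the projection to one degree
-/

set_option autoImplicit false
set_option linter.style.haveILetI false
universe u

open CategoryTheory CategoryTheory.Limits AlgebraicGeometry Opposite TopologicalSpace DirectSum

namespace Groth.Agent.H81.VeryAmple.GrSub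

noncomputable section

open Groth.Agent.Lib
open Groth.Agent.Lib.QCAlgSub.Basic (jm st rs adj loc loc_eq_adj adj_le_loc jm_mem_adj incl subAlg incl_injective)

variable {Y : Scheme.{u}} (𝒮 : RelProj.QCGrAlg Y)

/-- The homogeneous component, as an endomorphism of the underlying module. -/
theorem exists_proj (n : ℕ) :
    ∃ π : 𝒮.toModule ⟶ 𝒮.toModule, ∀ (U : Y.Opens) (hU : IsAffineOpen U) (a : 𝒮.presheaf.obj (op U)),
      jm 𝒮.toQCAlg π U a = ((DirectSum.decompose (𝒮.deg U hU) a) n : 𝒮.presheaf.obj (op U)) := by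
  let d : ∀ U : Y.affineOpens, Γ(𝒮.toModule, U.1) →+ Γ(𝒮.toModule, U.1) := fun U =>
    (GradedRing.proj (𝒮.deg U.1 U.2) n : 𝒮.presheaf.obj (op U.1) →+ 𝒮.presheaf.obj (op U.1))
  obtain ⟨π, hπ⟩ := ArtinFun.HomAffine.exists_hom_of_affine d (fun U r a => by
    change ((DirectSum.decompose (𝒮.deg U.1 U.2) ((𝒮.str.app (op U.1)).hom r * (show 𝒮.presheaf.obj (op U.1) from a))) n : 𝒮.presheaf.obj (op U.1)) =
      (𝒮.str.app (op U.1)).hom r * ((DirectSum.decompose (𝒮.deg U.1 U.2) (show 𝒮.presheaf.obj (op U.1) from a)) n : 𝒮.presheaf.obj (op U.1))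
    exact DirectSum.coe_decompose_mul_of_left_mem_zero (𝒮.deg U.1 U.2) (𝒮.str_mem U.1 U.2 r))
    (fun U V h a => by
      change rs 𝒮.toQCAlg h ((DirectSum.decompose (𝒮.deg U.1 U.2) (show 𝒮.presheaf.obj (op U.1) from a)) n : 𝒮.presheaf.obj (op U.1)) =
        ((DirectSum.decompose (𝒮.deg V.1 V.2) (rs 𝒮.toQCAlg h (show 𝒮.presheaf.obj (op U.1) from a))) n : 𝒮.presheaf.obj (op V.1))
      generalize (show 𝒮.presheaf.obj (op U.1) from a) = b
      induction b using DirectSum.Decomposition.inductionOn (𝒮.deg U.1 U.2) with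
      | zero => simp
      | homogeneous m =>
        rename_i i
        have hm' : rs 𝒮.toQCAlg h m.1 ∈ 𝒮.deg V.1 V.2 i := 𝒮.map_mem U.2 V.2 h m.2
        by_cases hi : i = n
        · subst hi
          rw [DirectSum.decompose_coe, DirectSum.decompose_of_mem _ hm']
          simp
        · rw [DirectSum.decompose_of_mem_ne _ m.2 hi, DirectSum.decompose_of_mem_ne _ hm' hi, map_zero]
      | add b c hb hc => simp only [map_add, DirectSum.decompose_add, DirectSum.add_apply, AddSubgroup.coe_add, hb, hc])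
  exact ⟨π, fun U hU a => hπ ⟨U, hU⟩ a⟩

variable {n : ℕ} {E : Y.Modules} (j : E ⟶ 𝒮.toModule)

theorem jm_zero (U : Y.Opens) : jm 𝒮.toQCAlg j U 0 = 0 := map_zero (j.app U).hom

theorem jm_add (U : Y.Opens) (e e' : Γ(E, U)) :
    jm 𝒮.toQCAlg j U (e + e') = jm 𝒮.toQCAlg j U e + jm 𝒮.toQCAlg j U e' := map_add (j.app U).hom e e'

theorem jm_smul (U : Y.Opens) (r : Γ(Y, U)) (e : Γ(E, U)) :
    jm 𝒮.toQCAlg j U (r • e) = st 𝒮.toQCAlg U r * jm 𝒮.toQCAlg j U e := Scheme.Modules.Hom.app_smul j r e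

/-- The pieces allowed in the subring. -/
def piece (U : Y.Opens) (hU : IsAffineOpen U) (n d : ℕ) : AddSubgroup (𝒮.presheaf.obj (op U)) :=
  if d = 0 then (st 𝒮.toQCAlg U).toAddMonoidHom.range
  else if d = n then (AddMonoidHom.mk' (jm 𝒮.toQCAlg j U) (jm_add 𝒮 j U)).range
  else if n < d then 𝒮.deg U hU d else ⊥

variable (hj : ∀ (U : Y.Opens) (hU : IsAffineOpen U) (e : Γ(E, U)), jm 𝒮.toQCAlg j U e ∈ 𝒮.deg U hU n)

include hj in
theorem piece_le (U : Y.Opens) (hU : IsAffineOpen U) (d : ℕ) : piece 𝒮 j U hU n d ≤ 𝒮.deg U hU d := by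
  unfold piece
  split_ifs with h1 h2 h3
  · subst h1; rintro _ ⟨r, rfl⟩; exact 𝒮.str_mem U hU r
  · subst h2; rintro _ ⟨e, rfl⟩; exact hj U hU e
  · exact le_rfl
  · exact bot_le

include hj in
theorem piece_mul (U : Y.Opens) (hU : IsAffineOpen U) {c d : ℕ} {a b : 𝒮.presheaf.obj (op U)}
    (ha : a ∈ piece 𝒮 j U hU n c) (hb : b ∈ piece 𝒮 j U hU n d) : a * b ∈ piece 𝒮 j U hU n (c + d) := by
  have key : ∀ {c d : ℕ} {a b : 𝒮.presheaf.obj (op U)}, a ∈ piece 𝒮 j U hU n c → b ∈ piece 𝒮 j U hU n d →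
      c = 0 → a * b ∈ piece 𝒮 j U hU n d := by
    intro c d a b ha hb hc
    subst hc
    rw [piece, if_pos rfl] at ha
    obtain ⟨r, rfl⟩ := ha
    have hdeg := SetLike.mul_mem_graded (𝒮.str_mem U hU r) (piece_le 𝒮 j hj U hU d hb)
    rw [zero_add] at hdeg
    unfold piece at hb ⊢
    split_ifs at hb ⊢ with h1 h2 h3
    · obtain ⟨r', rfl⟩ := hb; exact ⟨r * r', map_mul (st 𝒮.toQCAlg U) r r'⟩
    · obtain ⟨e, rfl⟩ := hb; exact ⟨r • e, jm_smul 𝒮 j U r e⟩
    · exact hdeg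
    · rw [AddSubgroup.mem_bot] at hb ⊢; rw [hb, mul_zero]
  rcases Nat.eq_zero_or_pos c with rfl | hc
  · rw [zero_add]; exact key ha hb rfl
  rcases Nat.eq_zero_or_pos d with rfl | hd
  · rw [add_zero, mul_comm]; exact key hb ha rfl
  have hab := SetLike.mul_mem_graded (piece_le 𝒮 j hj U hU c ha) (piece_le 𝒮 j hj U hU d hb)
  by_cases hcn : c < n
  · rw [piece, if_neg hc.ne', if_neg hcn.ne, if_neg hcn.not_gt, AddSubgroup.mem_bot] at ha
    rw [ha, zero_mul]; exact zero_mem _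
  · rw [piece, if_neg (Nat.add_pos_left hc d).ne', if_neg (by omega), if_pos (by omega)]
    exact hab

include hj in
/-- The subring is homogeneous and is determined in degrees `0` and `n`. -/
theorem exists_sum_of_mem_adj (hn : 0 < n) (U : Y.Opens) (hU : IsAffineOpen U) {a : 𝒮.presheaf.obj (op U)}
    (ha : a ∈ adj 𝒮.toQCAlg j U) (d : ℕ) :
    ((DirectSum.decompose (𝒮.deg U hU) a) d : 𝒮.presheaf.obj (op U)) ∈ piece 𝒮 j U hU n d := by
  have h1 : (1 : 𝒮.presheaf.obj (op U)) ∈ piece 𝒮 j U hU n 0 := by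
    rw [piece, if_pos rfl]; exact ⟨1, map_one (st 𝒮.toQCAlg U)⟩
  induction ha using Subring.closure_induction generalizing d with
  | mem x hx =>
    have : ∃ m, x ∈ piece 𝒮 j U hU n m := by
      rcases hx with ⟨r, rfl⟩ | ⟨e, rfl⟩
      · exact ⟨0, by rw [piece, if_pos rfl]; exact ⟨r, rfl⟩⟩
      · exact ⟨n, by rw [piece, if_neg hn.ne', if_pos rfl]; exact ⟨e, rfl⟩⟩
    obtain ⟨m, hm⟩ := this
    by_cases h : m = d
    · subst h; rwa [DirectSum.decompose_of_mem_same _ (piece_le 𝒮 j hj U hU m hm)]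
    · rw [DirectSum.decompose_of_mem_ne _ (piece_le 𝒮 j hj U hU m hm) h]; exact zero_mem _
  | zero => simp
  | one =>
    by_cases h : 0 = d
    · subst h; rwa [DirectSum.decompose_of_mem_same _ SetLike.GradedOne.one_mem]
    · rw [DirectSum.decompose_of_mem_ne _ SetLike.GradedOne.one_mem h]; exact zero_mem _
  | add x y _ _ hx hy =>
    rw [DirectSum.decompose_add, DirectSum.add_apply, AddSubgroup.coe_add]
    exact add_mem (hx d) (hy d)
  | neg x _ hx =>
    rw [DirectSum.decompose_neg, DFinsupp.neg_apply, AddSubgroup.coe_neg]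
    exact neg_mem (hx d)
  | mul x y _ _ hx hy =>
    classical
    rw [DirectSum.decompose_mul, DirectSum.coe_mul_apply]
    refine sum_mem fun ij hij => ?_
    rw [← (Finset.mem_filter.1 hij).2]
    exact piece_mul 𝒮 j hj U hU (hx ij.1) (hy ij.2)

variable [E.IsQuasicoherent]

/-- The pieces of the subalgebra. -/
def degS (U : Y.Opens) (hU : IsAffineOpen U) (d : ℕ) :
    AddSubgroup ((subAlg 𝒮.toQCAlg j).presheaf.obj (op U)) :=
  (𝒮.deg U hU d).comap ((incl 𝒮.toQCAlg j).hom.app (op U)).hom.toAddMonoidHom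

instance gradedMonoid_degS (U : Y.Opens) (hU : IsAffineOpen U) : SetLike.GradedMonoid (degS 𝒮 j U hU) where
  one_mem := by
    show ((incl 𝒮.toQCAlg j).hom.app (op U)).hom 1 ∈ 𝒮.deg U hU 0
    rw [map_one]; exact SetLike.GradedOne.one_mem
  mul_mem := fun c d a b ha hb => by
    show ((incl 𝒮.toQCAlg j).hom.app (op U)).hom (a * b) ∈ 𝒮.deg U hU (c + d)
    rw [map_mul]; exact SetLike.mul_mem_graded ha hb

theorem isInternal (hn : 0 < n) (hj : ∀ (U : Y.Opens) (hU : IsAffineOpen U) (e : Γ(E, U)), jm 𝒮.toQCAlg j U e ∈ 𝒮.deg U hU n)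
    (U : Y.Opens) (hU : IsAffineOpen U) : DirectSum.IsInternal (degS 𝒮 j U hU) := by
  let ι : ∀ d, degS 𝒮 j U hU d →+ 𝒮.deg U hU d := fun d =>
    AddMonoidHom.mk' (fun a => ⟨a.1.1, a.2⟩) fun _ _ => rfl
  have hcomp : ∀ x, (DirectSum.coeAddMonoidHom (degS 𝒮 j U hU) x).1 =
      DirectSum.coeAddMonoidHom (𝒮.deg U hU) (DirectSum.map ι x) := fun x => by
    induction x using DirectSum.induction_on with
    | zero => simp only [map_zero]; rfl
    | of d a => rw [DirectSum.map_of, DirectSum.coeAddMonoidHom_of, DirectSum.coeAddMonoidHom_of]; rfl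
    | add x y hx hy => simp only [map_add, ← hx, ← hy]; rfl
  refine ⟨fun x y h => ?_, fun a => ?_⟩
  · refine (DirectSum.map_injective (f := ι)).2 (fun d a b h' => Subtype.ext (Subtype.ext ?h1)) ?_
    case h1 => exact congrArg (fun z : 𝒮.deg U hU d => (z : 𝒮.presheaf.obj (op U))) h'
    exact (DirectSum.Decomposition.isInternal (𝒮.deg U hU)).1
      ((hcomp x).symm.trans ((congrArg Subtype.val h).trans (hcomp y)))
  · let R : Subring (subAlg 𝒮.toQCAlg j |>.presheaf.obj (op U)) := (DirectSum.coeRingHom (degS 𝒮 j U hU)).range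
    have hR : ∀ {d : ℕ} {b : 𝒮.presheaf.obj (op U)} (hb : b ∈ adj 𝒮.toQCAlg j U), b ∈ 𝒮.deg U hU d →
        (⟨b, adj_le_loc _ j U hb⟩ : loc 𝒮.toQCAlg j U) ∈ R := fun {d b} hb hd =>
      ⟨DirectSum.of (fun d => degS 𝒮 j U hU d) d ⟨⟨b, adj_le_loc _ j U hb⟩, hd⟩,
        DirectSum.coeRingHom_of (degS 𝒮 j U hU) d _⟩
    suffices a ∈ R from this
    have hle : adj 𝒮.toQCAlg j U ≤ R.map (loc 𝒮.toQCAlg j U).subtype := by
      refine Subring.closure_le.2 ?_
      rintro _ (⟨r, rfl⟩ | ⟨e, rfl⟩)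
      · exact ⟨_, hR (Subring.subset_closure (Or.inl ⟨r, rfl⟩)) (𝒮.str_mem U hU r), rfl⟩
      · exact ⟨_, hR (jm_mem_adj _ j U e) (hj U hU e), rfl⟩
    have ha : a.1 ∈ adj 𝒮.toQCAlg j U := by
      rw [← loc_eq_adj 𝒮.toQCAlg j hU]; exact a.2
    obtain ⟨a', ha', e⟩ := hle ha
    rwa [← Subtype.ext e]

/-- The graded subalgebra generated by `E` in degree `n`. -/
def subGr (hn : 0 < n)
    (hj : ∀ (U : Y.Opens) (hU : IsAffineOpen U) (e : Γ(E, U)), jm 𝒮.toQCAlg j U e ∈ 𝒮.deg U hU n) :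
    RelProj.QCGrAlg Y where
  toQCAlg := subAlg 𝒮.toQCAlg j
  deg := degS 𝒮 j
  graded U hU :=
    { gradedMonoid_degS 𝒮 j U hU with
      toDecomposition := (isInternal 𝒮 j hn hj U hU).chooseDecomposition }
  map_mem hU hV i _ _ hx := 𝒮.map_mem hU hV i hx
  str_mem U hU r := 𝒮.str_mem U hU r

theorem isGradedHom_incl (hn : 0 < n) :
    RelProj.IsGradedHom (𝒜 := subGr 𝒮 j hn hj) (ℬ := 𝒮) (incl 𝒮.toQCAlg j) := fun _ _ _ _ hx => hx

theorem deg_zero (hn : 0 < n) (U : Y.Opens) (hU : IsAffineOpen U) :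
    ((subGr 𝒮 j hn hj).deg U hU 0 : Set ((subGr 𝒮 j hn hj).presheaf.obj (op U))) =
      Set.range ((subGr 𝒮 j hn hj).str.app (op U)).hom := by
  refine Set.Subset.antisymm (fun a ha => ?_) ?_
  · have h : a.1 ∈ adj 𝒮.toQCAlg j U := by rw [← loc_eq_adj 𝒮.toQCAlg j hU]; exact a.2
    have h' := exists_sum_of_mem_adj 𝒮 j hj hn U hU h 0
    rw [DirectSum.decompose_of_mem_same _ (show a.1 ∈ 𝒮.deg U hU 0 from ha), piece, if_pos rfl] at h'
    obtain ⟨r, hr⟩ := h'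
    exact ⟨r, Subtype.ext hr⟩
  · rintro _ ⟨r, rfl⟩; exact 𝒮.str_mem U hU r

theorem exists_of_mem_deg (hn : 0 < n) (U : Y.Opens) (hU : IsAffineOpen U)
    {a : (subGr 𝒮 j hn hj).presheaf.obj (op U)} (ha : a ∈ (subGr 𝒮 j hn hj).deg U hU n) :
    ∃ e : Γ(E, U), jm 𝒮.toQCAlg j U e = a.1 := by
  have h : a.1 ∈ adj 𝒮.toQCAlg j U := by rw [← loc_eq_adj 𝒮.toQCAlg j hU]; exact a.2
  have h' := exists_sum_of_mem_adj 𝒮 j hj hn U hU h n
  rw [DirectSum.decompose_of_mem_same _ (show a.1 ∈ 𝒮.deg U hU n from ha), piece, if_neg hn.ne', if_pos rfl] at h'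
  exact h'

theorem closure_deg (hn : 0 < n) (U : Y.Opens) (hU : IsAffineOpen U) :
    Subring.closure (((subGr 𝒮 j hn hj).deg U hU 0 : Set ((subGr 𝒮 j hn hj).presheaf.obj (op U))) ∪
      ((subGr 𝒮 j hn hj).deg U hU n : Set ((subGr 𝒮 j hn hj).presheaf.obj (op U)))) = ⊤ := by
  refine eq_top_iff.2 fun a _ => ?_
  have hle : adj 𝒮.toQCAlg j U ≤ (Subring.closure (((subGr 𝒮 j hn hj).deg U hU 0 : Set ((subGr 𝒮 j hn hj).presheaf.obj (op U))) ∪
      ((subGr 𝒮 j hn hj).deg U hU n : Set ((subGr 𝒮 j hn hj).presheaf.obj (op U))))).map (loc 𝒮.toQCAlg j U).subtype := by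
    refine Subring.closure_le.2 ?_
    rintro _ (⟨r, rfl⟩ | ⟨e, rfl⟩)
    · exact ⟨⟨_, adj_le_loc _ j U (Subring.subset_closure (Or.inl ⟨r, rfl⟩))⟩,
        Subring.subset_closure (Or.inl (𝒮.str_mem U hU r)), rfl⟩
    · exact ⟨⟨_, adj_le_loc _ j U (jm_mem_adj _ j U e)⟩, Subring.subset_closure (Or.inr (hj U hU e)), rfl⟩
  have ha : a.1 ∈ adj 𝒮.toQCAlg j U := by rw [← loc_eq_adj 𝒮.toQCAlg j hU]; exact a.2
  obtain ⟨a', ha', e⟩ := hle ha
  rwa [← Subtype.ext e]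

theorem isFTDeg (hn : 0 < n) (hE : CohB1.IsFT E) : (subGr 𝒮 j hn hj).IsFTDeg n := fun U hU => by
  classical
  haveI : SheafOfModules.IsFiniteType (R := Y.ringCatSheaf) E := hE
  haveI := CohBasics.Affine.finite_sections (M := E) hU
  obtain ⟨G, hG⟩ := Module.Finite.fg_top (R := Γ(Y, U)) (M := Γ(E, U))
  let g : Γ(E, U) → (subGr 𝒮 j hn hj).presheaf.obj (op U) := fun e => ⟨jm 𝒮.toQCAlg j U e, adj_le_loc _ j U (jm_mem_adj _ j U e)⟩
  refine ⟨G.image g, ?_, fun x hx => ?_⟩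
  · rw [Finset.coe_image]
    rintro _ ⟨e, -, rfl⟩
    exact hj U hU e
  · obtain ⟨e, he⟩ := exists_of_mem_deg 𝒮 j hj hn U hU hx
    let letAlg := ((subGr 𝒮 j hn hj).str.app (op U)).hom.toAlgebra
    letI := letAlg
    have hmem : x ∈ Submodule.span Γ(Y, U) (↑(G.image g) : Set ((subGr 𝒮 j hn hj).presheaf.obj (op U))) := by
      let gl : Γ(E, U) →ₗ[Γ(Y, U)] (subGr 𝒮 j hn hj).presheaf.obj (op U) :=
        { toFun := g
          map_add' := fun a b => Subtype.ext (jm_add 𝒮 j U a b)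
          map_smul' := fun r a => Subtype.ext (jm_smul 𝒮 j U r a) }
      rw [Finset.coe_image, show (g : Γ(E, U) → _) = gl from rfl, ← Submodule.map_span, hG]
      exact ⟨e, trivial, Subtype.ext he⟩
    obtain ⟨c, -, hc⟩ := Submodule.mem_span_finset.1 hmem
    exact ⟨c, hc.symm⟩

end

end Groth.Agent.H81.VeryAmple.GrSub
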