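import Groth.Agent.H81.VeryAmple.Crit
import Groth.Agent.H81.VeryAmple.FTCrit

/-!
# The graded morphism from a symmetric algebra attached to a map into `q_*L`
-/

set_option autoImplicit false
set_option linter.style.haveILetI false
universe u

open CategoryTheory CategoryTheory.Limits AlgebraicGeometry TopologicalSpace Opposite
open scoped HomogeneousIdeal

namespace Groth.Agent.H81.VeryAmple.SymHom

noncomputable section

open Groth.Agent.Lib
open Groth.Agent.Lib.ProjQ.SecAlg (el el_add el_smul rz_el rz rz_rz rz_str IsHom eq_of_cover loc mem_loc isHom_app)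
open Groth.Agent.Lib.TensorMod.Dual (rs)
open Groth.Agent.Lib.SymAlg.PE (ev gloc ev_smul)

theorem le_iSup_affine {Y : Scheme.{u}} (U : Y.Opens) :
    U ≤ ⨆ V : {V : Y.affineOpens // V.1 ≤ U}, V.1.1 := fun x hx => by
  obtain ⟨V, hV, hxV, hle⟩ := exists_isAffineOpen_mem_and_subset (X := Y) hx
  exact Opens.mem_iSup.2 ⟨⟨⟨V, hV⟩, hle⟩, hxV⟩

theorem preimage_le_iSup_affine {X Y : Scheme.{u}} (q : X ⟶ Y) (U : Y.Opens) :
    q ⁻¹ᵁ U ≤ ⨆ V : {V : Y.affineOpens // V.1 ≤ U}, q ⁻¹ᵁ V.1.1 := fun x hx => by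
  obtain ⟨V, hV, hxV, hle⟩ := exists_isAffineOpen_mem_and_subset (X := Y) (x := q x) (U := U) hx
  exact Opens.mem_iSup.2 ⟨⟨⟨V, hV⟩, hle⟩, hxV⟩

section ext

variable {Y : Scheme.{u}} {E : Y.Modules} [E.IsQuasicoherent] {A : RelSpec.QCAlg Y} {j : E ⟶ A.toModule}

/-- Ring maps out of a symmetric algebra over an affine open. -/
theorem ringHom_ext (h : RelSpec.IsSymAlg E A j) {U : Y.Opens} (hU : IsAffineOpen U) {B : Type u} [CommRing B]
    (f g : A.presheaf.obj (op U) →+* B)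
    (h0 : ∀ r, f ((A.str.app (op U)).hom r) = g ((A.str.app (op U)).hom r))
    (h1 : ∀ e : Γ(E, U), f (j.app U e) = g (j.app U e)) : f = g := by
  letI := SymAlg.Unique.algInst A U
  letI : Algebra Γ(Y, U) B := (f.comp (A.str.app (op U)).hom).toAlgebra
  let fa : A.presheaf.obj (op U) →ₐ[Γ(Y, U)] B := { f with commutes' := fun _ => rfl }
  let ga : A.presheaf.obj (op U) →ₐ[Γ(Y, U)] B := { g with commutes' := fun r => (h0 r).symm }
  have : fa = ga := (SymAlg.Unique.isSymmetricAlgebra h hU).algHom_ext (LinearMap.ext h1)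
  exact congrArg AlgHom.toRingHom this

end ext

variable {X Y : Scheme.{u}} {q : X ⟶ Y} {L : X.Modules} {𝒮L : RelProj.QCGrAlg X} {jL : L ⟶ 𝒮L.toModule}
  {E : Y.Modules} {𝒯 : RelProj.QCGrAlg Y} {jE : E ⟶ 𝒯.toModule} (h𝒯 : RelProj.IsGrSymAlg E 𝒯 jE)
  (ι : E ⟶ (Scheme.Modules.pushforward q).obj L)

include h𝒯 in
theorem exists_affine [E.IsQuasicoherent] (U : Y.affineOpens) :
    ∃ f : 𝒯.presheaf.obj (op U.1) →+* 𝒮L.presheaf.obj (op (q ⁻¹ᵁ U.1)),
      (∀ r, f ((𝒯.str.app (op U.1)).hom r) = (𝒮L.str.app (op (q ⁻¹ᵁ U.1))).hom (q.app U.1 r)) ∧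
      ∀ e : Γ(E, U.1), f (jE.app U.1 e) = el jL (q ⁻¹ᵁ U.1) (ev ι U.1 e) := by
  letI := SymAlg.Unique.algInst 𝒯.toQCAlg U.1
  letI : Algebra Γ(Y, U.1) (𝒮L.presheaf.obj (op (q ⁻¹ᵁ U.1))) :=
    ((𝒮L.str.app (op (q ⁻¹ᵁ U.1))).hom.comp (q.app U.1).hom).toAlgebra
  let lin : Γ(E, U.1) →ₗ[Γ(Y, U.1)] 𝒮L.presheaf.obj (op (q ⁻¹ᵁ U.1)) :=
    { toFun := fun e => el jL (q ⁻¹ᵁ U.1) (ev ι U.1 e)
      map_add' := fun a b => (congrArg (el jL (q ⁻¹ᵁ U.1)) (map_add (ι.app U.1).hom a b)).trans (el_add jL _ _ _)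
      map_smul' := fun r e => (congrArg (el jL (q ⁻¹ᵁ U.1)) (ev_smul ι U.1 r e)).trans (el_smul jL _ _ _) }
  have h := SymAlg.Unique.isSymmetricAlgebra h𝒯.1 U.2
  exact ⟨(h.lift lin).toRingHom, fun r => (h.lift lin).commutes r,
    fun e => LinearMap.congr_fun (show (h.lift lin).toLinearMap ∘ₗ SymAlg.Unique.jLin 𝒯.toQCAlg jE U.1 = lin from
      LinearMap.ext fun x => h.lift_eq lin x) e⟩

include h𝒯 in
/-- The graded morphism extending a map into `q_*L`. -/
theorem exists_qGrHom (hE : Coh.IsQCoh E) (hjL : RelProj.IsGrSymAlg L 𝒮L jL) :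
    ∃ u : RelProj.QGrHom q 𝒯 𝒮L,
      ∀ (U : Y.Opens) (x : Γ(E, U)), (u.app U).hom ((jE.app U) x) = (jL.app (q ⁻¹ᵁ U)) ((ι.app U) x) := by
  haveI : E.IsQuasicoherent := hE
  choose f hf0 hf1 using exists_affine (jL := jL) h𝒯 ι
  have hnat : ∀ (U V : Y.affineOpens) (i : V.1 ≤ U.1) (a : 𝒯.presheaf.obj (op U.1)),
      rz (q.preimage_mono i) (f U a) = f V (rz i a) := fun U V i => by
    refine RingHom.congr_fun (ringHom_ext h𝒯.1 U.2
      ((𝒮L.presheaf.map (homOfLE (q.preimage_mono i)).op).hom.comp (f U))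
      ((f V).comp (𝒯.presheaf.map (homOfLE i).op).hom) (fun r => ?_) fun e => ?_)
    · change rz (q.preimage_mono i) (f U _) = f V (rz i _)
      rw [hf0, rz_str, rz_str, hf0]
      exact congrArg _ congr($(q.naturality (homOfLE i).op) r).symm
    · change rz (q.preimage_mono i) (f U _) = f V (rz i (el jE U.1 e))
      rw [hf1, rz_el, rz_el, SymAlg.PE.ev_rs, ← hf1]
  let T : TopCat.Sheaf CommRingCat.{u} Y :=
    (TopCat.Sheaf.pushforward CommRingCat q.base).obj ⟨𝒮L.presheaf, 𝒮L.isSheaf⟩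
  let α : (Scheme.AffineZariskiSite.toOpensFunctor Y).op ⋙ 𝒯.presheaf ⟶
      (Scheme.AffineZariskiSite.toOpensFunctor Y).op ⋙ T.obj :=
    { app := fun U => CommRingCat.ofHom (f ⟨U.unop.1, U.unop.2⟩)
      naturality := fun U V i => CommRingCat.hom_ext (RingHom.ext fun a =>
        (hnat ⟨U.unop.1, U.unop.2⟩ ⟨V.unop.1, V.unop.2⟩ (Scheme.AffineZariskiSite.toOpens_mono i.unop.le) a).symm) }
  let β : 𝒯.presheaf ⟶ T.obj :=
    Functor.IsCoverDense.restrictHomEquivHom (G := Scheme.AffineZariskiSite.toOpensFunctor Y)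
      (K := Opens.grothendieckTopology Y) (ℱ := 𝒯.presheaf) (ℱ' := T) α
  let app : ∀ U : Y.Opens, 𝒯.presheaf.obj (op U) ⟶ 𝒮L.presheaf.obj (op (q ⁻¹ᵁ U)) := fun U => β.app (op U)
  have happ : ∀ (U : Y.affineOpens) a, (app U.1).hom a = f U a := fun U a =>
    congr($(NatTrans.congr_app ((Functor.IsCoverDense.restrictHomEquivHom
      (G := Scheme.AffineZariskiSite.toOpensFunctor Y) (K := Opens.grothendieckTopology Y) (ℱ := 𝒯.presheaf)
      (ℱ' := T)).symm_apply_apply α) (op ⟨U.1, U.2⟩)) a)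
  have hres : ∀ (U V : Y.Opens) (i : V ≤ U) a, rz (q.preimage_mono i) ((app U).hom a) = (app V).hom (rz i a) :=
    fun U V i a => congr($(β.naturality (homOfLE i).op) a).symm
  have hloc : ∀ (U : Y.Opens) (a : 𝒯.presheaf.obj (op U)) (b : 𝒮L.presheaf.obj (op (q ⁻¹ᵁ U))),
      (∀ (V : Y.affineOpens) (i : V.1 ≤ U), f V (rz i a) = rz (q.preimage_mono i) b) → (app U).hom a = b :=
    fun U a b h => eq_of_cover (fun V : {V : Y.affineOpens // V.1 ≤ U} => q ⁻¹ᵁ V.1.1)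
      (fun V => q.preimage_mono V.2) (preimage_le_iSup_affine q U) _ _ fun V => by
        rw [hres U _ V.2, happ, h V.1 V.2]
  refine ⟨{ app := app
            naturality := fun i => CommRingCat.hom_ext (RingHom.ext fun a => hres _ _ i a)
            str_app := fun U => CommRingCat.hom_ext (RingHom.ext fun r => hloc U _ _ fun V i => ?_)
            map_mem := fun U hU U' hU' hle d x hx => ?_ }, fun U x => hloc U _ _ fun V i => ?_⟩
  · change f V (rz i ((𝒯.str.app (op U)).hom r)) =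
      rz (q.preimage_mono i) ((𝒮L.str.app (op (q ⁻¹ᵁ U))).hom (q.app U r))
    rw [rz_str, hf0]
    refine Eq.trans ?_ (rz_str (q.preimage_mono i) _).symm
    exact congrArg _ congr($(q.naturality (homOfLE i).op) r)
  · change rz hle ((app U).hom x) ∈ _
    rw [happ ⟨U, hU⟩]
    letI := SymAlg.Unique.algInst 𝒯.toQCAlg U
    have hx' := (SymAlg.Unique.deg_eq h𝒯 hU d x).1 hx
    clear hx
    induction hx' using Submodule.pow_induction_on_left' with
    | algebraMap r =>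
      change rz hle (f ⟨U, hU⟩ ((𝒯.str.app (op U)).hom r)) ∈ _
      rw [hf0, rz_str]
      exact 𝒮L.str_mem U' hU' _
    | add x y i hx hy ihx ihy =>
      rw [map_add]
      exact (congrArg (· ∈ 𝒮L.deg U' hU' i) (map_add (𝒮L.presheaf.map (homOfLE hle).op).hom _ _)).mpr
        (add_mem ihx ihy)
    | mem_mul m hm i x hx ih =>
      obtain ⟨e, rfl⟩ := hm
      rw [map_mul]
      refine (congrArg (· ∈ 𝒮L.deg U' hU' _) (map_mul (𝒮L.presheaf.map (homOfLE hle).op).hom _ _)).mpr ?_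
      rw [Nat.succ_eq_add_one, add_comm i 1]
      refine SetLike.mul_mem_graded ?_ ih
      change rz hle (f ⟨U, hU⟩ (jE.app U e)) ∈ _
      rw [hf1, rz_el]
      exact hjL.2 U' hU' _
  · change f V (rz i (el jE U x)) = rz (q.preimage_mono i) (el jL (q ⁻¹ᵁ U) (ev ι U x))
    rw [rz_el, rz_el, SymAlg.PE.ev_rs]
    exact hf1 V _

end

end Groth.Agent.H81.VeryAmple.SymHom
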