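import Groth.Agent.H81.VeryAmple.SymHom
import Groth.Agent.H81.RelProj.Exists

/-!
# Very ample modules through finite-type submodules of `q_*L`
-/

set_option autoImplicit false
set_option linter.style.haveILetI false
universe u

open CategoryTheory CategoryTheory.Limits AlgebraicGeometry TopologicalSpace Opposite
open scoped HomogeneousIdeal

namespace Groth.Agent.H81.VeryAmple.Sub

noncomputable section

open Groth.Agent.Lib
open Groth.Agent.Lib.ProjQ.SecAlg (el rz_el rz IsHom mem_loc)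
open Groth.Agent.Lib.SymAlg.PE (ev gloc)

theorem qcqs {Y : Scheme.{u}} (hY : (CompactSpace Y ∧ Y.IsSeparated) ∨ NoetherianSpace Y) :
    CompactSpace Y ∧ QuasiSeparatedSpace Y := by
  rcases hY with ⟨h1, h2⟩ | h
  · haveI := h2
    exact ⟨h1, inferInstance⟩
  · exact ⟨inferInstance, inferInstance⟩

variable {X Y PL : Scheme.{u}} {q : X ⟶ Y} {L : X.Modules} {𝒮L : RelProj.QCGrAlg X} {jL : L ⟶ 𝒮L.toModule}
  {pL : PL ⟶ X}
  {chartL : ∀ (U : X.Opens) (hU : IsAffineOpen U), ((pL ⁻¹ᵁ U : PL.Opens) : Scheme.{u}) ≅ Proj (𝒮L.deg U hU)}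
  (hL : PicF.IsInvertible L) (hLq : Coh.IsQCoh L) (hjL : RelProj.IsGrSymAlg L 𝒮L jL)
  (hPL : RelProj.IsRelProj 𝒮L pL chartL)
  {E : Y.Modules} {𝒯 : RelProj.QCGrAlg Y} {jE : E ⟶ 𝒯.toModule} {v : E ⟶ (Scheme.Modules.pushforward q).obj L}
  {u : RelProj.QGrHom q 𝒯 𝒮L}
  (hv : ∀ (U : Y.Opens), IsAffineOpen U → ∀ e : Γ(E, U),
    el jL (q ⁻¹ᵁ U) (ev v U e) = (u.app U).hom ((jE.app U) e))

include hjL in
theorem isHom_el (W : X.Opens) (m : Γ(L, W)) : IsHom 𝒮L 1 W (el jL W m) := fun V hV h => by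
  rw [rz_el]
  exact hjL.2 V hV _

include hL hLq hjL hPL hv in
theorem generates_of_span (hs : ∀ x : X, ∃ (U : Y.Opens) (hU : IsAffineOpen U) (e : Γ(E, U)) (V : X.Opens)
      (hV : IsAffineOpen V) (hVU : V ≤ q ⁻¹ᵁ U), x ∈ V ∧
        ((𝒮L.deg V hV 1 : AddSubgroup (𝒮L.presheaf.obj (op V))) : Set (𝒮L.presheaf.obj (op V))) ⊆
          (Ideal.span {(u.appLE U V hVU).hom ((jE.app U) e)} : Set (𝒮L.presheaf.obj (op V)))) :
    SymAlg.PE.Generates v := fun x => by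
  obtain ⟨U, hU, e, V, hV, hVU, hx, hsub⟩ := hs x
  refine ⟨U, hU, e, ?_⟩
  rw [← Crit.loc_el hL hLq hjL hPL _ (isHom_el hjL _ _)]
  refine mem_loc.2 ⟨V, hV, hVU, hx, ?_⟩
  rw [hv U hU e]
  exact hsub

include hL hLq hjL hPL hv in
theorem span_of_generates (hg : SymAlg.PE.Generates v) : ∀ x : X, ∃ (U : Y.Opens) (hU : IsAffineOpen U) (e : Γ(E, U))
      (V : X.Opens) (hV : IsAffineOpen V) (hVU : V ≤ q ⁻¹ᵁ U), x ∈ V ∧
        ((𝒮L.deg V hV 1 : AddSubgroup (𝒮L.presheaf.obj (op V))) : Set (𝒮L.presheaf.obj (op V))) ⊆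
          (Ideal.span {(u.appLE U V hVU).hom ((jE.app U) e)} : Set (𝒮L.presheaf.obj (op V))) := fun x => by
  obtain ⟨U, hU, e, hx⟩ := hg x
  rw [← Crit.loc_el hL hLq hjL hPL _ (isHom_el hjL _ _)] at hx
  obtain ⟨V, hV, hVU, hxV, hsub⟩ := mem_loc.1 hx
  refine ⟨U, hU, e, V, hV, hVU, hxV, ?_⟩
  rw [hv U hU e] at hsub
  exact hsub

include hL hLq hjL hPL hv in
/-- For a symmetric algebra the map is an immersion exactly when the criterion holds. -/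
theorem isImmersion_iff (hE : Coh.IsQCoh E) (h𝒯 : RelProj.IsGrSymAlg E 𝒯 jE) (hg : SymAlg.PE.Generates v)
    {P : Scheme.{u}} {p : P ⟶ Y}
    {chart : ∀ (U : Y.Opens) (hU : IsAffineOpen U), ((p ⁻¹ᵁ U : P.Opens) : Scheme.{u}) ≅ Proj (𝒯.deg U hU)}
    (hP : RelProj.IsRelProj 𝒯 p chart) {r : (RelProj.domQ u pL chartL : Scheme.{u}) ⟶ P}
    (hr : RelProj.IsProjQMapOn u p chart pL chartL (RelProj.domQ u pL chartL) r) :
    RelProj.domQ u pL chartL = ⊤ ∧ (IsImmersion r ↔ SymAlg.PE.Crit v) :=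
  Crit.isImmersion_iff hL hLq hjL hP hPL hr (j := jE) hv (SymAlg.Gen.isGenDegOne h𝒯 hE)
    (fun U hU e => h𝒯.2 U hU e)
    (fun U hU b hb => (SymAlg.Gen.deg_one h𝒯 hE hU hb).imp fun _ he => he.symm) hg

end

end Groth.Agent.H81.VeryAmple.Sub
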