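import Groth.Agent.Lib.ProjQ.Stage
import Groth.Agent.H81.VeryAmple.GrSub
import Groth.Agent.Lib.H70.FTQuot
import Groth.Agent.Lib.ProjQ.Invertible
import Groth.Agent.Lib.ProjQ.SecAlg

/-!
# An immersion into `Proj` is met by a subalgebra generated by finitely many sections of one degree
-/

set_option autoImplicit false
set_option linter.style.haveILetI false
universe u

open CategoryTheory CategoryTheory.Limits AlgebraicGeometry TopologicalSpace Opposite HomogeneousLocalization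
open scoped HomogeneousIdeal

namespace Groth.Agent.H81.VeryAmple.SubImm

noncomputable section

open Groth.Agent.Lib Groth.Agent.Lib.ProjQ

variable {Y X P PL : Scheme.{u}} {q : X ⟶ Y} {L : X.Modules}
  {𝒮 : RelProj.QCGrAlg Y} {𝒮L : RelProj.QCGrAlg X} {j : L ⟶ 𝒮L.toModule}
  {u : RelProj.QGrHom q 𝒮 𝒮L} {p : P ⟶ Y}
  {chart : ∀ (U : Y.Opens) (hU : IsAffineOpen U), ((p ⁻¹ᵁ U : P.Opens) : Scheme.{u}) ≅ Proj (𝒮.deg U hU)}
  {pL : PL ⟶ X}
  {chartL : ∀ (U : X.Opens) (hU : IsAffineOpen U), ((pL ⁻¹ᵁ U : PL.Opens) : Scheme.{u}) ≅ Proj (𝒮L.deg U hU)}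

theorem opensRange_std_pow {U : Y.Opens} (hU : IsAffineOpen U) {d : ℕ} (hd : 0 < d) {f : 𝒮.presheaf.obj (op U)}
    (hf : f ∈ 𝒮.deg U hU d) {N n : ℕ} (hN : 0 < N) (hn : 0 < n) (hfN : f ^ N ∈ 𝒮.deg U hU n) :
    (std p chart U hU hn (f ^ N) hfN).opensRange = (std p chart U hU hd f hf).opensRange := by
  rw [opensRange_std, opensRange_std, Proj.basicOpen_pow _ _ _ hN]

/-- One standard chart: finitely many fractions control the immersion through a power of the chart element. -/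
theorem exists_chart_data (hP : RelProj.IsRelProj 𝒮 p chart) (hPL : RelProj.IsRelProj 𝒮L pL chartL)
    [LocallyOfFiniteType q] [IsIso pL]
    {r : (RelProj.domQ u pL chartL : Scheme.{u}) ⟶ P}
    (hr : RelProj.IsProjQMapOn u p chart pL chartL (RelProj.domQ u pL chartL) r) [IsImmersion r]
    {U : Y.Opens} (hU : IsAffineOpen U) {d : ℕ} (hd : 0 < d) {f : 𝒮.presheaf.obj (op U)}
    (hf : f ∈ 𝒮.deg U hU d) (hle : (std p chart U hU hd f hf).opensRange ≤ r.coborderRange) :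
    ∃ (M : ℕ) (T : Finset (ℕ × 𝒮.presheaf.obj (op U))),
      (∀ z ∈ T, z.1 < M ∧ z.2 ∈ 𝒮.deg U hU (z.1 * d)) ∧
      ∀ (𝒯 : RelProj.QCGrAlg Y) (W : 𝒯.deg U hU →+*ᵍ 𝒮.deg U hU),
        (∀ c, W ((𝒯.strZero U hU).hom c : 𝒯.presheaf.obj (op U)) = (𝒮.strZero U hU).hom c) →
        ∀ (N n : ℕ) (hn : 0 < n), M < N → n = N * d → ∀ (y : 𝒯.presheaf.obj (op U)) (hy : y ∈ 𝒯.deg U hU n),
          W y = f ^ N → (∀ z ∈ T, ∃ y' ∈ 𝒯.deg U hU n, W y' = z.2 * f ^ (N - z.1)) →
          IsClosedImmersion (pullback.snd r (std p chart U hU hn (W y) (W.map_mem hy)) ≫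
            Spec.map (CommRingCat.ofHom (Away.map W y))) := by
  classical
  set g := std p chart U hU hd f hf
  haveI hclosed : IsClosedImmersion (pullback.snd r g) :=
    ((MorphismProperty.arrow_mk_iso_iff @IsClosedImmersion) (morphismRestrictOpensRange r g)).1
      (ProjQ.isClosedImmersion_restrict_of_le r hle)
  let σ : Γ(Y, U) ⟶ CommRingCat.of (Away (𝒮.deg U hU) f) :=
    CommRingCat.ofHom ((fromZeroRingHom (𝒮.deg U hU) (Submonoid.powers f)).comp (𝒮.strZero U hU).hom)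
  haveI : LocallyOfFiniteType (pullback.snd r g ≫ Spec.map σ) := by
    have e : (pullback.snd r g ≫ Spec.map σ) ≫ hU.fromSpec =
        pullback.fst r g ≫ (RelProj.domQ u pL chartL).ι ≫ pL ≫ q := by
      rw [Category.assoc, ← std_over hP U hU hd f hf, ← over hP hPL hr, pullback.condition_assoc]
    haveI : IsOpenImmersion (pullback.fst r g) := inferInstance
    haveI : LocallyOfFiniteType ((pullback.snd r g ≫ Spec.map σ) ≫ hU.fromSpec) := e ▸ inferInstance
    exact locallyOfFiniteType_of_comp _ hU.fromSpec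
  obtain ⟨T, hT⟩ := exists_finset_closed (pullback.snd r g) σ
  choose m a ha hma using fun z : Away (𝒮.deg U hU) f => Away.mk_surjective (𝒮.deg U hU) hf z
  refine ⟨T.sup m + 1, T.image fun z => (m z, a z), fun z hz => ?_, ?_⟩
  · obtain ⟨w, hw, rfl⟩ := Finset.mem_image.1 hz
    exact ⟨Nat.lt_succ_of_le (Finset.le_sup hw), by simpa [smul_eq_mul] using ha w⟩
  intro 𝒯 W hstr N n hn hN hnd y hy hyf hlift
  obtain ⟨K, rfl⟩ : ∃ K, N = K + 1 := ⟨N - 1, by omega⟩
  have hg : f ^ K ∈ 𝒮.deg U hU (K * d) := by simpa [smul_eq_mul] using SetLike.pow_mem_graded K hf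
  have hx : f ^ (K + 1) = f * f ^ K := pow_succ' f K
  have hfN : f ^ (K + 1) ∈ 𝒮.deg U hU n := hyf ▸ W.map_mem hy
  have main : ∀ (x : 𝒮.presheaf.obj (op U)) (hxn : x ∈ 𝒮.deg U hU n) (e : x = f * f ^ K), W y = x →
      IsClosedImmersion (pullback.snd r (std p chart U hU hn (W y) (W.map_mem hy)) ≫
        Spec.map (CommRingCat.ofHom (Away.map W y))) := by
    intro x hxn e hwy
    subst hwy
    let α : CommRingCat.of (Away (𝒮.deg U hU) f) ⟶ CommRingCat.of (Away (𝒮.deg U hU) (W y)) :=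
      CommRingCat.ofHom (awayMap (𝒮.deg U hU) hg e)
    have hstd : Spec.map α ≫ g = std p chart U hU hn (W y) (W.map_mem hy) := by
      have key : ∀ (m' : ℕ) (h1 : W y ∈ 𝒮.deg U hU m') (h2 : 0 < m'), m' = n →
          std p chart U hU h2 (W y) h1 = std p chart U hU hn (W y) (W.map_mem hy) := by
        rintro m' h1 h2 rfl; rfl
      have h1 : W y ∈ 𝒮.deg U hU (d + K * d) := e ▸ SetLike.mul_mem_graded hf hg
      rw [← key (d + K * d) h1 (hd.trans_le (Nat.le_add_right _ _)) (by rw [hnd]; ring)]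
      show Spec.map α ≫ Proj.awayι (𝒮.deg U hU) f hf hd ≫ RelProj.emb p chart U hU = _
      rw [← Category.assoc, Proj.SpecMap_awayMap_awayι (𝒮.deg U hU) hf hd hg e]
      rfl
    haveI : IsOpenImmersion (Spec.map α ≫ g) := hstd ▸ inferInstance
    haveI : IsOpenImmersion (Spec.map α) := IsOpenImmersion.of_comp _ g
    have hiso : IsIso (Spec.map α) := by
      have hr' : (Spec.map α ≫ g).opensRange = g.opensRange := by
        rw [show (Spec.map α ≫ g).opensRange = (std p chart U hU hn (W y) (W.map_mem hy)).opensRange by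
          simp only [hstd]]
        rw [opensRange_std, opensRange_std, show W y = f ^ (K + 1) from e.trans hx.symm,
          Proj.basicOpen_pow _ _ _ K.succ_pos]
      haveI : Epi (Spec.map α).base := (TopCat.epi_iff_surjective _).2 fun z => by
        obtain ⟨w, hw⟩ := hr'.ge ⟨z, rfl⟩
        exact ⟨w, g.isOpenEmbedding.injective hw⟩
      exact IsOpenImmersion.isIso _
    have hαb := bijective_of_isIso_SpecMap α
    let e' := RingEquiv.ofBijective α.hom hαb
    let ψ : CommRingCat.of (Away (𝒯.deg U hU) y) ⟶ CommRingCat.of (Away (𝒮.deg U hU) f) :=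
      CommRingCat.ofHom (e'.symm.toRingHom.comp (Away.map W y))
    have hψ : ψ ≫ α = CommRingCat.ofHom (Away.map W y) := CommRingCat.hom_ext (RingHom.ext fun b => e'.apply_symm_apply _)
    have hrange : ∀ z, (∃ b, Away.map W y b = α.hom z) → z ∈ Set.range ψ.hom := fun z ⟨b, hb⟩ =>
      ⟨b, hαb.1 ((e'.apply_symm_apply _).trans hb)⟩
    have hcl := hT _ ψ (fun z hz => hrange z ?_) fun c => hrange _ ?_
    · rw [← hψ, Spec.map_comp, ← Category.assoc]
      have hpb : IsPullback (pullback.fst r (std p chart U hU hn (W y) (W.map_mem hy)))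
          (pullback.snd r (std p chart U hU hn (W y) (W.map_mem hy)) ≫ Spec.map α) r g :=
        (IsPullback.of_hasPullback r (std p chart U hU hn (W y) (W.map_mem hy))).of_iso (Iso.refl _) (Iso.refl _)
          (asIso (Spec.map α)) (Iso.refl _) (by simp) (by simp) (by simp) (by simp [hstd])
      rw [← hpb.isoPullback_hom_snd, Category.assoc]
      infer_instance
    · obtain ⟨y', hy', e₂⟩ := hlift (m z, a z) (Finset.mem_image_of_mem _ hz)
      have hlt : m z ≤ K := by have := Finset.le_sup (f := m) hz; omega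
      refine ⟨Away.mk _ hy 1 y' (by simpa using hy'), val_injective _ ?_⟩
      rw [← hma z]
      show _ = (awayMap (𝒮.deg U hU) hg e _).val
      rw [Away.map_mk, awayMap_mk, Away.val_mk, Away.val_mk]
      refine Localization.mk_eq_mk_iff.2 (Localization.r_iff_exists.2 ⟨1, ?_⟩)
      simp only [Submonoid.coe_one, one_mul, pow_one, e₂, e]
      obtain ⟨t, rfl⟩ := Nat.exists_eq_add_of_le hlt
      rw [show m z + t + 1 - m z = t + 1 by omega]
      ring
    · refine ⟨fromZeroRingHom _ (Submonoid.powers y) ((𝒯.strZero U hU).hom c), ?_⟩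
      refine (H81.RelProj.Localize.map_fromZero W y _).trans ?_
      refine Eq.trans ?_ (awayMap_fromZeroRingHom (𝒮.deg U hU) hg e _).symm
      exact congrArg (fromZeroRingHom (𝒮.deg U hU) _) (Subtype.ext (hstr c))
  exact main _ hfN hx hyf

/-- An immersion into `Proj` factors through the subalgebra generated by finitely many sections of one degree. -/
theorem exists_sub [CompactSpace Y] [QuasiSeparatedSpace Y] [QuasiCompact q] [LocallyOfFiniteType q]
    (hL : PicF.IsInvertible L) (hLq : Coh.IsQCoh L) (hj : RelProj.IsGrSymAlg L 𝒮L j)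
    (hP : RelProj.IsRelProj 𝒮 p chart) (hPL : RelProj.IsRelProj 𝒮L pL chartL)
    {r : (RelProj.domQ u pL chartL : Scheme.{u}) ⟶ P}
    (hr : RelProj.IsProjQMapOn u p chart pL chartL (RelProj.domQ u pL chartL) r)
    (htop : RelProj.domQ u pL chartL = ⊤) [IsImmersion r] :
    ∃ (n : ℕ) (_ : 0 < n) (𝒮' : RelProj.QCGrAlg Y) (j' : 𝒮'.toQCAlg ⟶ 𝒮.toQCAlg) (_ : RelProj.IsGradedHom j')
      (_ : ∀ (U : Y.Opens), IsAffineOpen U → Function.Injective (j'.hom.app (op U)).hom)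
      (_ : ∀ (U : Y.Opens) (hU : IsAffineOpen U),
        ((𝒮'.deg U hU 0 : AddSubgroup (𝒮'.presheaf.obj (op U))) : Set (𝒮'.presheaf.obj (op U))) =
          Set.range (𝒮'.str.app (op U)).hom)
      (_ : ∀ (U : Y.Opens) (hU : IsAffineOpen U),
        Subring.closure (((𝒮'.deg U hU 0 : AddSubgroup (𝒮'.presheaf.obj (op U))) : Set (𝒮'.presheaf.obj (op U))) ∪
          ((𝒮'.deg U hU n : AddSubgroup (𝒮'.presheaf.obj (op U))) : Set (𝒮'.presheaf.obj (op U)))) = ⊤)
      (_ : 𝒮'.IsFTDeg n)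
      (u' : RelProj.QGrHom q 𝒮' 𝒮L) (_ : ∀ U : Y.Opens, u'.app U = j'.hom.app (op U) ≫ u.app U),
      (∀ x : X, ∃ (U : Y.Opens) (hU : IsAffineOpen U) (e : 𝒮'.presheaf.obj (op U)) (_ : e ∈ 𝒮'.deg U hU n)
          (V : X.Opens) (hV : IsAffineOpen V) (hVU : V ≤ q ⁻¹ᵁ U), x ∈ V ∧
            ((𝒮L.deg V hV n : AddSubgroup (𝒮L.presheaf.obj (op V))) : Set (𝒮L.presheaf.obj (op V))) ⊆
              (Ideal.span {(u'.appLE U V hVU).hom e} : Set (𝒮L.presheaf.obj (op V)))) ∧
      (∀ (P' : Scheme.{u}) (p' : P' ⟶ Y)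
          (chart' : ∀ (U : Y.Opens) (hU : IsAffineOpen U), (((p' ⁻¹ᵁ U : P'.Opens) : Scheme.{u}) ≅ Proj (𝒮'.deg U hU)))
          (_ : RelProj.IsRelProj 𝒮' p' chart')
          (r' : ((RelProj.domQ u' pL chartL : PL.Opens) : Scheme.{u}) ⟶ P')
          (_ : RelProj.IsProjQMapOn u' p' chart' pL chartL (RelProj.domQ u' pL chartL) r'),
        RelProj.domQ u' pL chartL = ⊤ ∧ IsImmersion r') := by
  classical
  haveI := isIso_proj hL hLq hj hPL
  haveI : CompactSpace PL := ProjQ.compactSpace_of_iso pL q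
  choose U hU d f hd hf hmem hle using fun x : PL =>
    exists_std_le' (p := p) (chart := chart) (O := r.coborderRange) (y := r ⟨x, htop.ge (Set.mem_univ x)⟩)
      (subset_coborder ⟨_, rfl⟩)
  let O : PL → PL.Opens := fun x =>
    (RelProj.domQ u pL chartL).ι ''ᵁ (r ⁻¹ᵁ (std p chart (U x) (hU x) (hd x) (f x) (hf x)).opensRange)
  obtain ⟨K, hK⟩ := isCompact_univ.elim_finite_subcover (fun x : PL => (O x).carrier) (fun x => (O x).2)
    (fun x _ => Set.mem_iUnion.2 ⟨x, ⟨x, htop.ge (Set.mem_univ x)⟩, hmem x, rfl⟩)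
  choose M T hTm hTc using fun x : PL => exists_chart_data hP hPL hr (hU x) (hd x) (hf x) (hle x)
  let D : ℕ := ∏ x ∈ K, d x
  let n : ℕ := D * (K.sup M + 1)
  have hn : 0 < n := Nat.mul_pos (Finset.prod_pos fun x _ => hd x) (Nat.succ_pos _)
  let N : PL → ℕ := fun x => n / d x
  have hNd : ∀ x ∈ K, n = N x * d x := fun x hx =>
    (Nat.div_mul_cancel ((Finset.dvd_prod_of_mem d hx).mul_right _)).symm
  have hMN : ∀ x ∈ K, M x < N x := fun x hx => by
    refine (Nat.lt_succ_of_le (Finset.le_sup (f := M) hx)).trans_le ?_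
    refine (Nat.le_div_iff_mul_le (hd x)).2 ?_
    show _ ≤ D * (K.sup M + 1)
    rw [Nat.mul_comm D]
    exact Nat.mul_le_mul_left _ (Nat.le_of_dvd (Finset.prod_pos fun y _ => hd y) (Finset.dvd_prod_of_mem d hx))
  obtain ⟨π, hπ⟩ := GrSub.exists_proj 𝒮 n
  haveI := QCAlgSub.Basic.isQuasicoherent_toModule 𝒮.toQCAlg
  let tset : ∀ x : PL, Finset (𝒮.presheaf.obj (op (U x))) := fun x =>
    insert (f x ^ N x) ((T x).image fun z => z.2 * f x ^ (N x - z.1))
  choose S hS hSmem using fun x : PL =>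
    H70.FTQuot.exists_family (F := 𝒮.toModule) (hU x) (fun i => (((tset x).equivFin.symm i).1 : Γ(𝒮.toModule, U x)))
  have hTf : Modules.SubStalk.IsLocFG (K.sup S) ⊤ := H70.FTQuot.isLocFG_finset_sup K S hS
  let E := Modules.SubStalk.subMod (K.sup S)
  haveI : E.IsQuasicoherent := Modules.SubStalk.isQCoh_subMod hTf
  let jE : E ⟶ 𝒮.toModule := Modules.SubStalk.ι (K.sup S) ≫ π
  have hjE : ∀ (V : Y.Opens) (hV : IsAffineOpen V) (e : Γ(E, V)),
      QCAlgSub.Basic.jm 𝒮.toQCAlg jE V e ∈ 𝒮.deg V hV n := fun V hV e => by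
    rw [show QCAlgSub.Basic.jm 𝒮.toQCAlg jE V e =
      QCAlgSub.Basic.jm 𝒮.toQCAlg π V ((Modules.SubStalk.ι (K.sup S)).app V e) from rfl, hπ V hV]
    exact SetLike.coe_mem _
  let 𝒮' := GrSub.subGr 𝒮 jE hn hjE
  have hincl : RelProj.IsGradedHom (𝒜 := 𝒮') (ℬ := 𝒮) (QCAlgSub.Basic.incl 𝒮.toQCAlg jE) :=
    GrSub.isGradedHom_incl 𝒮 jE hjE hn
  let inc : 𝒮'.toQCAlg ⟶ 𝒮.toQCAlg := QCAlgSub.Basic.incl 𝒮.toQCAlg jE
  let u' : RelProj.QGrHom q 𝒮' 𝒮L :=
    { app := fun V => inc.hom.app (op V) ≫ u.app V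
      naturality := fun {V W} i => by
        rw [Category.assoc, u.naturality i, ← Category.assoc, ← inc.hom.naturality, Category.assoc]
      str_app := fun V => by
        rw [← Category.assoc, show 𝒮'.str.app (op V) ≫ inc.hom.app (op V) = 𝒮.str.app (op V) from
          congr(($(inc.comm)).app (op V)), u.str_app]
      map_mem := fun V hV V' hV' hl _ a ha => u.map_mem V hV V' hV' hl (hincl V hV _ a ha) }
  have hui : ∀ V : Y.Opens, u'.app V = inc.hom.app (op V) ≫ u.app V := fun V => rfl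
  have hlift : ∀ x ∈ K, ∀ b ∈ tset x, b ∈ 𝒮.deg (U x) (hU x) n →
      ∃ b' ∈ 𝒮'.deg (U x) (hU x) n, (RelProj.QGrHom.ofHom inc hincl).gradedAt (U x) (hU x) (U x) (hU x) le_rfl b' = b := by
    intro x hx b hb hbn
    obtain ⟨e, he⟩ := Modules.SubStalk.exists_ι_app (S := K.sup S) (U := U x) (t := (b : Γ(𝒮.toModule, U x))) fun y hy =>
      Finset.le_sup (f := S) hx y (by simpa using hSmem x ((tset x).equivFin ⟨b, hb⟩) y hy)
    have hje : QCAlgSub.Basic.jm 𝒮.toQCAlg jE (U x) e = b := by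
      rw [show QCAlgSub.Basic.jm 𝒮.toQCAlg jE (U x) e =
        QCAlgSub.Basic.jm 𝒮.toQCAlg π (U x) ((Modules.SubStalk.ι (K.sup S)).app (U x) e) from rfl, hπ (U x) (hU x), he]
      exact DirectSum.decompose_of_mem_same _ hbn
    refine ⟨⟨_, QCAlgSub.Basic.adj_le_loc _ jE _ (QCAlgSub.Basic.jm_mem_adj _ jE (U x) e)⟩, hjE (U x) (hU x) e, ?_⟩
    exact (congr($(gradedAt_ofHom inc hincl (U x) (hU x)) _)).trans hje
  have hNpos : ∀ x ∈ K, 0 < N x := fun x hx => (Nat.zero_le _).trans_lt (hMN x hx)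
  have hfn : ∀ x ∈ K, f x ^ N x ∈ 𝒮.deg (U x) (hU x) n := fun x hx => by
    have h := SetLike.pow_mem_graded (N x) (hf x)
    rwa [smul_eq_mul, ← hNd x hx] at h
  choose! y hy hyf using fun x (hx : x ∈ K) => hlift x hx _ (Finset.mem_insert_self _ _) (hfn x hx)
  have hw : ∀ x ∈ K, ∀ (U' : X.Opens) (hU' : IsAffineOpen U') (hl : U' ≤ q ⁻¹ᵁ U x),
      u'.gradedAt (U x) (hU x) U' hU' hl (y x) = u.gradedAt (U x) (hU x) U' hU' hl (f x ^ N x) := by
    intro x hx U' hU' hl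
    rw [gradedAt_comp (u := u) (hv := hincl) hui _ _ _ _ hl, ← hyf x hx]
    rfl
  have hcov : ∀ z : PL, ∃ x ∈ K, z ∈ O x := fun z => by
    obtain ⟨x, hx, hz⟩ := Set.mem_iUnion₂.1 (hK (Set.mem_univ z))
    exact ⟨x, hx, hz⟩
  have hmemO : ∀ z x, x ∈ K → z ∈ O x → ∃ (U' : X.Opens) (hU' : IsAffineOpen U') (hl : U' ≤ q ⁻¹ᵁ U x),
      z ∈ (RelProj.emb pL chartL U' hU') ''ᵁ
        Proj.basicOpen (𝒮L.deg U' hU') (u'.gradedAt (U x) (hU x) U' hU' hl (y x)) := by
    intro z x hx hz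
    have h' : z ∈ (RelProj.domQ u pL chartL).ι ''ᵁ (r ⁻¹ᵁ (RelProj.emb p chart (U x) (hU x) ''ᵁ
        Proj.basicOpen (𝒮.deg (U x) (hU x)) (f x ^ N x))) := by
      rw [← opensRange_std (U x) (hU x) hn (f x ^ N x) (hfn x hx),
        opensRange_std_pow (hU x) (hd x) (hf x) (hNpos x hx) hn (hfn x hx)]
      exact hz
    obtain ⟨U', hU', hl, h⟩ :=
      (mem_image_preimage_iff hP hPL hr (U x) (hU x) hn (f x ^ N x) (hfn x hx) z).1 h'
    exact ⟨U', hU', hl, (hw x hx U' hU' hl).symm ▸ h⟩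
  have htop' : RelProj.domQ u' pL chartL = ⊤ := top_le_iff.1 fun z _ => by
    obtain ⟨x, hx, hz⟩ := hcov z
    obtain ⟨U', hU', hl, h⟩ := hmemO z x hx hz
    exact mem_domQ.2 ⟨⟨U x, hU x, U', hU', hl, n, hn, y x, hy x hx⟩, (Idx.opensRange_e pL chartL _).ge h⟩
  have hpU : ∀ z x, x ∈ K → ∀ (U' : X.Opens) (hU' : IsAffineOpen U') (b : 𝒮L.presheaf.obj (op U')),
      z ∈ (RelProj.emb pL chartL U' hU') ''ᵁ Proj.basicOpen (𝒮L.deg U' hU') b → pL z ∈ U' := by
    intro z x _ U' hU' b h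
    obtain ⟨v, -, hv⟩ := h
    rw [← hv]
    exact (opensRange_emb (p := pL) (chart := chartL) U' hU').le ⟨v, rfl⟩
  refine ⟨n, hn, 𝒮', inc, hincl, fun V _ => QCAlgSub.Basic.incl_injective 𝒮.toQCAlg jE V,
    fun V hV => GrSub.deg_zero 𝒮 jE hjE hn V hV, fun V hV => GrSub.closure_deg 𝒮 jE hjE hn V hV,
    GrSub.isFTDeg 𝒮 jE hjE hn (Modules.SubStalk.isFT_subMod hTf), u', hui, fun x => ?_, ?_⟩
  · haveI : IsIso pL.base := inferInstance
    obtain ⟨z, rfl⟩ : ∃ z, pL z = x := (TopCat.homeoOfIso (asIso pL.base)).surjective x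
    obtain ⟨x, hx, hz⟩ := hcov z
    obtain ⟨U', hU', hl, h⟩ := hmemO z x hx hz
    have hzU := hpU z x hx U' hU' _ h
    have hhom : ProjQ.SecAlg.IsHom 𝒮L n U' (u'.gradedAt (U x) (hU x) U' hU' hl (y x)) := fun V hV hVU =>
      𝒮L.map_mem hU' hV hVU (GradedRingHom.map_mem _ (hy x hx))
    have hloc := (ProjQ.SecAlg.mem_emb_iff_mem_loc hL hLq hj hPL hn _ hhom z U' hU' le_rfl hzU).1
      (by rw [ProjQ.SecAlg.rz_self]; exact h)
    obtain ⟨V, hV, hVU, hzV, hsub⟩ := ProjQ.SecAlg.mem_loc.1 hloc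
    refine ⟨U x, hU x, y x, hy x hx, V, hV, hVU.trans hl, hzV, ?_⟩
    have e : (u'.appLE (U x) V (hVU.trans hl)).hom (y x) =
        ProjQ.SecAlg.rz hVU (u'.gradedAt (U x) (hU x) U' hU' hl (y x)) :=
      congr($((u'.appLE_map hl hVU).symm) (y x))
    rw [e]
    exact hsub
  intro P' p' chart' hP' r' hr'
  obtain ⟨rv, hrv, -⟩ := existsUnique (u := RelProj.QGrHom.ofHom inc hincl) hP' hP
  have hleM := Groth.Agent.S12147.result q L hL hLq 𝒮 𝒮L j hj u p chart hP pL chartL hPL 𝒮' inc hincl u' hui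
  obtain ⟨k, hk1, hk2⟩ := exists_comp hui hleM hr hr' hrv
  haveI := isIso_homOfLE hleM htop'
  let W : {x // x ∈ K} → P'.Opens := fun a =>
    (std p' chart' (U a.1) (hU a.1) hn (y a.1) (hy a.1 a.2)).opensRange
  refine ⟨htop', of_restrict_cover @IsImmersion (fun f _ => inferInstance) r' W ?_ fun a => ?_⟩
  · refine top_le_iff.1 fun z _ => ?_
    obtain ⟨x, hx, hz⟩ := hcov z.1
    obtain ⟨U', hU', hl, h⟩ := hmemO z.1 x hx hz
    refine Opens.mem_iSup.2 ⟨⟨x, hx⟩, ?_⟩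
    refine (opensRange_std (U x) (hU x) hn (y x) (hy x hx)).ge ?_
    exact (mem_preimage_iff hP' hPL hr' (U x) (hU x) U' hU' hl hn (y x) (hy x hx) z
      (hpU _ x hx U' hU' _ h)).2 h
  · obtain ⟨x, hx⟩ := a
    let w := (RelProj.QGrHom.ofHom inc hincl).gradedAt (U x) (hU x) (U x) (hU x) le_rfl
    let iv : Idx (g := 𝟙 Y) (𝒮 := 𝒮') := ⟨U x, hU x, U x, hU x, le_rfl, n, hn, y x, hy x hx⟩
    let sf := std p chart (U x) (hU x) hn (w (y x)) (w.map_mem (hy x hx))
    have hwapp : ∀ b, w b = (inc.hom.app (op (U x))).hom b := fun b =>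
      congr($(gradedAt_ofHom inc hincl (U x) (hU x)) b)
    haveI : IsClosedImmersion (pullback.snd r sf ≫ Spec.map (CommRingCat.ofHom (Away.map w (y x)))) := by
      refine hTc x 𝒮' w (fun c => ?_) (N x) n hn (hMN x hx) (hNd x hx) (y x) (hy x hx) (hyf x hx) fun z hz => ?_
      · rw [hwapp]
        exact congr(($(inc.comm)).app (op (U x)) c)
      · refine hlift x hx _ (Finset.mem_insert_of_mem (Finset.mem_image_of_mem _ hz)) ?_
        obtain ⟨hzM, hzd⟩ := hTm x z hz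
        have h := SetLike.mul_mem_graded hzd (SetLike.pow_mem_graded (N x - z.1) (hf x))
        rwa [smul_eq_mul, ← add_mul, Nat.add_sub_cancel' (hzM.trans (hMN x hx)).le, ← hNd x hx] at h
    have hpb0 : IsPullback (pullback.fst r sf ≫ inv (PL.homOfLE hleM)) (pullback.snd r sf)
        (PL.homOfLE hleM ≫ r) sf :=
      (IsPullback.of_hasPullback r sf).of_iso (Iso.refl _) (asIso (PL.homOfLE hleM)).symm (Iso.refl _) (Iso.refl _)
        (by simp) (by simp) (by simp) (by simp)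
    have hpb1 : IsPullback (pullback.fst r sf ≫ inv (PL.homOfLE hleM)) (pullback.snd r sf) k
        (lift (u := RelProj.QGrHom.ofHom inc hincl) p chart iv) :=
      isPullback_of_comp_mono (RelProj.domQ (RelProj.QGrHom.ofHom inc hincl) p chart).ι hk1
        (lift_ι (u := RelProj.QGrHom.ofHom inc hincl) (p' := p) (chart' := chart) iv) hpb0
    have hpb2 := (hpb1.flip.paste_horiz (isPullback_std hP' hP hrv iv rfl)).flip
    rw [hk2] at hpb2
    have h1 : IsClosedImmersion (pullback.snd r' (std p' chart' (U x) (hU x) hn (y x) (hy x hx))) := by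
      rw [← hpb2.isoPullback_inv_snd]
      infer_instance
    haveI := ((MorphismProperty.arrow_mk_iso_iff @IsClosedImmersion) (morphismRestrictOpensRange r'
      (std p' chart' (U x) (hU x) hn (y x) (hy x hx)))).2 h1
    infer_instance

end

end Groth.Agent.H81.VeryAmple.SubImm
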