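import Groth.Agent.Lib.ProjMor.VeryAmple
import Groth.Agent.Lib.ProjMor.Affine
import Groth.Agent.Lib.Chow.Segre
import Groth.Agent.Lib.H70.DomMap

/-!
# Very ample tensor generated is very ample
-/

noncomputable section

set_option autoImplicit false
universe u

open CategoryTheory CategoryTheory.Limits AlgebraicGeometry TopologicalSpace Opposite

namespace Groth.Agent.H81.VeryAmple.TensorGen

open Groth.Agent.Lib
open TensorMod TensorMod.Basic TensorMod.Free TensorMod.Dual TensorMod.Gen TensorMod.HomGlue TensorMod.Pullback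
  Ample.GenLocus ProjMor ProjMor.Sec ProjMor.Frame ProjMor.VeryAmple Chow.PointMap Chow.Segre

/-- A linear coordinate of projective space over `ℤ`. -/
abbrev el {n : ℕ} (l : Fin (n + 1)) : CohB1.polyGrading n Z.{u} 1 :=
  ⟨MvPolynomial.X l, MvPolynomial.isHomogeneous_X Z.{u} l⟩

/-- The open `D₊(x_a)`. -/
abbrev Dp {n : ℕ} (a : Fin (n + 1)) : (CohB1.ProjSpace n Z.{u}).Opens :=
  Proj.basicOpen (CohB1.polyGrading n Z.{u}) (el.{u} a : MvPolynomial (Fin (n + 1)) Z.{u})

theorem fr_eq {n : ℕ} (a l : Fin (n + 1)) :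
    fr (CohB1.polyGrading n Z.{u}) (el.{u} a) (el.{u} l) =
      Proj.awayToSection (CohB1.polyGrading n Z.{u}) _ (ProjSpace.Charts.coord Z.{u} a l) := by
  refine congrArg (Proj.awayToSection (CohB1.polyGrading n Z.{u}) _) (HomogeneousLocalization.val_injective _ ?_)
  rw [ProjSpace.Charts.val_coord, HomogeneousLocalization.Away.val_mk]
  exact congrArg (Localization.mk _) (Subtype.ext (pow_one _))

/-- A point in the chart `a` has the pull-backs of `x_l / x_a` as coordinates. -/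
theorem eq_chartPt {T : Scheme.{u}} {n : ℕ} (g : T ⟶ CohB1.ProjSpace n Z.{u}) (a : Fin (n + 1))
    (h : (⊤ : T.Opens) ≤ g ⁻¹ᵁ Dp a) :
    IsPt g a fun l => g.appLE (Dp a) ⊤ h (fr (CohB1.polyGrading n Z.{u}) (el.{u} a) (el.{u} l)) := by
  obtain ⟨v, hv1, hv⟩ := exists_isPt g a fun t => h (Opens.mem_top t)
  suffices key : ∀ l, g.appLE (Dp a) ⊤ h (fr (CohB1.polyGrading n Z.{u}) (el.{u} a) (el.{u} l)) = v l by
    rw [funext key]; exact ⟨hv1, hv⟩
  intro l
  have hA : (⊤ : (Spec (CommRingCat.of (ProjSpace.Charts.AwayX Z.{u} a))).Opens) ≤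
      ProjSpace.Basic.awayχ Z.{u} a ⁻¹ᵁ Dp a := fun z _ => by
    show ProjSpace.Basic.awayχ Z.{u} a z ∈ Dp a
    rw [Dp, ← ProjSpace.Basic.opensRange_awayχ]
    exact ⟨z, rfl⟩
  have key : ∀ (g' : T ⟶ CohB1.ProjSpace n Z.{u}) (e : ⊤ ≤ g' ⁻¹ᵁ Dp a), g' = chartPt a v →
      g'.appLE (Dp a) ⊤ e (fr (CohB1.polyGrading n Z.{u}) (el.{u} a) (el.{u} l)) = v l := by
    rintro _ e rfl
    simp only [chartPt]
    rw [← Scheme.Hom.appLE_comp_appLE (toSpecHom (ptHom a v)) (ProjSpace.Basic.awayχ Z.{u} a) (Dp a) ⊤ ⊤ hA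
      (by simp), CommRingCat.comp_apply, fr_eq]
    have h1 := H70.DomMap.awayι_appLE (𝒜 := CohB1.polyGrading n Z.{u}) (ProjSpace.Charts.X_mem_one a) one_pos
      (ProjSpace.Charts.coord Z.{u} a l) hA
    refine Eq.trans (congrArg _ h1) ?_
    erw [Scheme.Hom.appLE_eq_app]
    exact (congr($(homOf_toSpecHom (ptHom a v)) (ProjSpace.Charts.coord Z.{u} a l))).trans (ptHom_coord hv1 l)
  exact key g h hv

variable {X S : Scheme.{u}}

theorem isRelVeryAmplePn_tensorMod [IsAffine S] (q : X ⟶ S) {L L' : X.Modules} (hL : PicF.IsInvertible L)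
    (hva : RelAmple.IsRelVeryAmplePn q L) (hL' : PicF.IsInvertible L') {m : ℕ} (s : Fin m → ProjUP.Γm L')
    (hs : ProjUP.GeneratedBy L' s) : RelAmple.IsRelVeryAmplePn q (CohB1.tensorMod L L') := by
  have hM : PicF.IsInvertible (CohB1.tensorMod L L') := Invertible.isInvertible_tensorMod hL hL'
  rcases isEmpty_or_nonempty X with hX | hX
  · exact Embed.isRelVeryAmplePn_of_sections q _ hM (N := 0) (fun _ => 0) ∅ (fun x => isEmptyElim x)
      (fun i hi => absurd hi (Set.notMem_empty i)) (fun _ => ⊥) (fun i hi => absurd hi (Set.notMem_empty i))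
      (fun i hi => absurd hi (Set.notMem_empty i)) (fun i hi => absurd hi (Set.notMem_empty i))
  obtain ⟨n, i, hi, hiq, ⟨φ⟩⟩ := hva
  obtain ⟨m', rfl⟩ : ∃ m', m = m' + 1 := by
    obtain ⟨b, -⟩ := exists_mem_locus hL' hs (Classical.arbitrary X)
    exact ⟨m - 1, by have := b.pos; omega⟩
  let p : CohB1.ProjSpaceOver n S ⟶ CohB1.ProjSpace n Z.{u} := pullback.fst _ _
  let r : X ⟶ CohB1.ProjSpace n Z.{u} := i ≫ p
  let 𝒜 := CohB1.polyGrading n Z.{u}
  let τ : (Scheme.Modules.pullback r).obj (Twist.twist 𝒜 1) ≅ L :=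
    ((Scheme.Modules.pullbackComp i p).app (Twist.twist 𝒜 1)).symm ≪≫ φ.symm
  let xs : Fin (n + 1) → ProjUP.Γm L := fun a =>
    τ.hom.app ⊤ (ProjUP.pullSec r (Twist.twist 𝒜 1) (g 𝒜 (el.{u} a)))
  have hcv := Main.cover (Poly.lin_mem n Z.{u}) (Poly.adjoin_lin n Z.{u})
  have hinv : PicF.IsInvertible (Twist.twist 𝒜 1) :=
    Groth.Agent.Lib.ProjTilde.Invertible.twist_isInvertible_of_cover (fun x => by
      obtain ⟨c, hc⟩ := hcv x
      exact ⟨c, c.2, hc⟩) 1
  have hxloc : ∀ a, locus (xs a) = r ⁻¹ᵁ Dp a := fun a => by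
    simp only [Dp]
    rw [← locus_g hcv (el.{u} a)]
    exact (locus_iso τ _).trans (locus_pullback hinv r _)
  -- the Segre sections
  let N := n * m' + n + m'
  let t : Fin (N + 1) → ProjUP.Γm (CohB1.tensorMod L L') := fun k =>
    tm L L' (xs ((idx n m').symm k).1) (s ((idx n m').symm k).2)
  have htloc : ∀ a b, locus (t (idx n m' (a, b))) = locus (xs a) ⊓ locus (s b) := fun a b => by
    simp only [t, Equiv.symm_apply_apply]
    exact locus_tmul hL hL' _ _
  have hcov : ∀ x, ∃ k, x ∈ locus (t k) := fun x => by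
    obtain ⟨b, hb⟩ := exists_mem_locus hL' hs x
    obtain ⟨c, hc⟩ := hcv (r x)
    obtain ⟨a, ha⟩ : ∃ a, r x ∈ Dp a := by
      by_contra hne
      push Not at hne
      refine (r x).not_irrelevant_le ((HomogeneousIdeal.irrelevant_le 𝒜).mpr fun d hd f hf => ?_)
      have hmem : ∀ a, (MvPolynomial.X a : MvPolynomial (Fin (n + 1)) Z.{u}) ∈ (r x).asHomogeneousIdeal :=
        fun a => not_not.1 (hne a)
      have hf' : f.IsHomogeneous d := hf
      rw [f.as_sum]
      refine Ideal.sum_mem _ fun e he => ?_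
      have hdeg : e.degree = d := (hf'.degree_eq_sum_deg_support he).symm
      obtain ⟨a, ha⟩ : ∃ a, e a ≠ 0 := by
        by_contra h0
        push Not at h0
        have : e = 0 := Finsupp.ext h0
        rw [this, map_zero] at hdeg
        omega
      rw [MvPolynomial.monomial_eq, Finsupp.prod]
      refine Ideal.mul_mem_left _ _ (Ideal.mem_of_dvd _
        ((dvd_pow_self _ ha).trans (Finset.dvd_prod_of_mem _ (Finsupp.mem_support_iff.2 ha))) (hmem a))
    refine ⟨idx n m' (a, b), ?_⟩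
    rw [htloc, hxloc]
    exact ⟨ha, hb⟩
  let ℬ := CohB1.polyGrading N Z.{u}
  obtain ⟨R, hR, σ, hσ⟩ := Poly.exists_map N Z.{u} (q ≫ specULiftZIsTerminal.from S) _ hM t
    (Embed.generatedBy_of_locus t hcov)
  let j : X ⟶ CohB1.ProjSpaceOver N S := pullback.lift R q hR
  let P : CohB1.ProjSpaceOver N S ⟶ CohB1.ProjSpace N Z.{u} := pullback.fst _ _
  let π : CohB1.ProjSpaceOver N S ⟶ S := pullback.snd _ _
  have hjP : j ≫ P = R := pullback.lift_fst _ _ _
  have hjπ : j ≫ π = q := pullback.lift_snd _ _ _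
  have hcvN := Main.cover (Poly.lin_mem N Z.{u}) (Poly.adjoin_lin N Z.{u})
  have hinvN : PicF.IsInvertible (Twist.twist ℬ 1) :=
    Groth.Agent.Lib.ProjTilde.Invertible.twist_isInvertible_of_cover (fun x => by
      obtain ⟨c, hc⟩ := hcvN x
      exact ⟨c, c.2, hc⟩) 1
  have hloc : ∀ k, locus (t k) = R ⁻¹ᵁ Dp k := fun k => by
    simp only [Dp]
    rw [← locus_g hcvN (el.{u} k)]
    exact (congrArg locus (hσ k)).symm.trans ((locus_iso σ _).trans (locus_pullback hinvN R _))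
  have hcoord : ∀ (a : Fin (n + 1)) (b : Fin (m' + 1)) (c : Fin (n + 1))
      (h : locus (t (idx n m' (a, b))) ≤ r ⁻¹ᵁ Dp a),
      R.appLE _ (locus (t (idx n m' (a, b)))) (hloc _).le
          (fr ℬ (el.{u} (idx n m' (a, b))) (el.{u} (idx n m' (c, b)))) =
        r.appLE _ (locus (t (idx n m' (a, b)))) h (fr 𝒜 (el.{u} a) (el.{u} c)) := by
    intro a b c h
    refine (isGen_locus (t (idx n m' (a, b))) _ le_rfl).1 ?_
    simp only [rs_self]
    refine (Embed.ratio_of_iso (a := el.{u} (idx n m' (a, b))) (b := el.{u} (idx n m' (c, b))) σ (hσ _) (hσ _)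
      (hloc _).le).symm.trans ?_
    have ht : ∀ a b, t (idx n m' (a, b)) = tm L L' (xs a) (s b) := fun a b => by
      simp only [t, Equiv.symm_apply_apply]
    generalize locus (t (idx n m' (a, b))) = W at h ⊢
    rw [ht, ht, gl_tmul, gl_tmul]
    have hx : gl (xs c) W = r.appLE _ W h (fr 𝒜 (el.{u} a) (el.{u} c)) • gl (xs a) W :=
      Embed.ratio_of_iso (a := el.{u} a) (b := el.{u} c) τ rfl rfl h
    refine (congrArg (fun z => tm L L' z (gl (s b) W)) hx).trans ?_
    simp only [← pairM_id, pairM_smul_left]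
  -- the immersion, chart by chart
  let D : Fin (N + 1) → (CohB1.ProjSpaceOver N S).Opens := fun k => P ⁻¹ᵁ Dp k
  have hD : ⨆ k, D k = ⊤ := by
    rw [eq_top_iff]
    intro x _
    refine Opens.mem_iSup.2 ?_
    by_contra hne
    push Not at hne
    refine (P x).not_irrelevant_le ((HomogeneousIdeal.irrelevant_le ℬ).mpr fun d hd f hf => ?_)
    have hmem : ∀ a, (MvPolynomial.X a : MvPolynomial (Fin (N + 1)) Z.{u}) ∈ (P x).asHomogeneousIdeal :=
      fun a => not_not.1 (hne a)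
    have hf' : f.IsHomogeneous d := hf
    rw [f.as_sum]
    refine Ideal.sum_mem _ fun e he => ?_
    have hdeg : e.degree = d := (hf'.degree_eq_sum_deg_support he).symm
    obtain ⟨a, ha⟩ : ∃ a, e a ≠ 0 := by
      by_contra h0
      push Not at h0
      have : e = 0 := Finsupp.ext h0
      rw [this, map_zero] at hdeg
      omega
    rw [MvPolynomial.monomial_eq, Finsupp.prod]
    refine Ideal.mul_mem_left _ _ (Ideal.mem_of_dvd _
      ((dvd_pow_self _ ha).trans (Finset.dvd_prod_of_mem _ (Finsupp.mem_support_iff.2 ha))) (hmem a))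
  have himm : IsImmersion j := by
    refine IsZariskiLocalAtTarget.of_iSup_eq_top (P := @IsImmersion) D hD fun k => ?_
    obtain ⟨⟨a, b⟩, rfl⟩ := (idx n m').surjective k
    let k := idx n m' (a, b)
    let O := D k
    let U := j ⁻¹ᵁ O
    let G : (O : Scheme.{u}) ⟶ CohB1.ProjSpace N Z.{u} := O.ι ≫ P
    have hG : (⊤ : (O : Scheme.{u}).Opens) ≤ G ⁻¹ᵁ Dp k := fun z _ => z.2
    let v : Fin (n + 1) → Γ((O : Scheme.{u}), ⊤) := fun c =>
      G.appLE _ ⊤ hG (fr ℬ (el.{u} k) (el.{u} (idx n m' (c, b))))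
    have hv : v a = 1 := by
      refine (congrArg (G.appLE (Dp k) ⊤ hG) ?_).trans (map_one _)
      rw [fr_eq, ProjSpace.Charts.coord_self, map_one]
      rfl
    let ψ : (O : Scheme.{u}) ⟶ CohB1.ProjSpaceOver n S :=
      pullback.lift (chartPt a v) (O.ι ≫ π) (specULiftZIsTerminal.hom_ext _ _)
    have hUt : U = locus (t k) := by
      show j ⁻¹ᵁ (P ⁻¹ᵁ Dp k) = _
      rw [← Scheme.Hom.comp_preimage, hloc k]
      exact congrArg (· ⁻¹ᵁ Dp k) hjP
    have hUr : U ≤ r ⁻¹ᵁ Dp a := by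
      rw [hUt, htloc, hxloc]; exact inf_le_left
    have hcomp : (j ∣_ O) ≫ ψ = U.ι ≫ i := by
      apply pullback.hom_ext
      · refine (Category.assoc _ _ _).trans ((congrArg ((j ∣_ O) ≫ ·) (pullback.lift_fst _ _ _)).trans ?_)
        refine Eq.trans ?_ (Category.assoc _ _ _).symm
        change (j ∣_ O) ≫ chartPt a v = U.ι ≫ r
        have htop : (⊤ : (U : Scheme.{u}).Opens) ≤ (U.ι ≫ r) ⁻¹ᵁ Dp a := fun z _ => hUr z.2
        have h1 : IsPt (chartPt a v) a v := ⟨hv, rfl⟩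
        rw [(h1.comp (j ∣_ O)).2]
        refine Eq.trans ?_ (eq_chartPt (U.ι ≫ r) a htop).2.symm
        congr 1
        funext c
        simp only [v]
        have e1 : (j ∣_ O).appTop (G.appLE _ ⊤ hG (fr ℬ (el.{u} k) (el.{u} (idx n m' (c, b))))) =
            ((j ∣_ O) ≫ G).appLE _ ⊤ (fun z _ => hG (Opens.mem_top _)) (fr ℬ (el.{u} k) (el.{u} (idx n m' (c, b)))) := by
          rw [← Scheme.Hom.appLE_comp_appLE (j ∣_ O) G _ ⊤ ⊤ hG (fun z _ => trivial), CommRingCat.comp_apply,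
            Scheme.Hom.appTop, Scheme.Hom.app_eq_appLE]
          rfl
        rw [e1]
        have eG : (j ∣_ O) ≫ G = U.ι ≫ R := by
          simp only [G, ← Category.assoc, morphismRestrict_ι]
          rw [Category.assoc, hjP]
        have hR' : ∀ (G' : (U : Scheme.{u}) ⟶ CohB1.ProjSpace N Z.{u}) (e : ⊤ ≤ G' ⁻¹ᵁ Dp k),
            G' = U.ι ≫ R → G'.appLE _ ⊤ e (fr ℬ (el.{u} k) (el.{u} (idx n m' (c, b)))) =
              U.ι.appLE (locus (t k)) ⊤ (fun z _ => hUt.le z.2)
                (R.appLE _ (locus (t k)) (hloc k).le (fr ℬ (el.{u} k) (el.{u} (idx n m' (c, b))))) := by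
          rintro _ e rfl
          rw [← Scheme.Hom.appLE_comp_appLE U.ι R _ (locus (t k)) ⊤ (hloc k).le (fun z _ => hUt.le z.2),
            CommRingCat.comp_apply]
        rw [hR' _ _ eG, hcoord a b c (by rw [← hUt]; exact hUr)]
        rw [← CommRingCat.comp_apply, Scheme.Hom.appLE_comp_appLE]
      · refine (Category.assoc _ _ _).trans ((congrArg ((j ∣_ O) ≫ ·) (pullback.lift_snd _ _ _)).trans ?_)
        refine Eq.trans ?_ (Category.assoc _ _ _).symm
        rw [← Category.assoc, morphismRestrict_ι, Category.assoc]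
        exact congrArg (U.ι ≫ ·) (hjπ.trans hiq.symm)
    haveI : IsImmersion ((j ∣_ O) ≫ ψ) := by rw [hcomp]; infer_instance
    exact IsImmersion.of_comp (j ∣_ O) ψ
  refine ⟨N, j, himm, hjπ, ⟨σ.symm ≪≫ ?_⟩⟩
  exact (Scheme.Modules.pullbackCongr hjP.symm).app (Twist.twist ℬ 1) ≪≫
    ((Scheme.Modules.pullbackComp j P).app (Twist.twist ℬ 1)).symm

end Groth.Agent.H81.VeryAmple.TensorGen
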